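import Mathlib

set_option autoImplicit false

/-!
# Configurations of lines in the plane over `F_p` (submodule form)
-/

namespace Cfsg.Agent.H775.Cube

open Matrix

variable {p : ℕ} [hp : Fact p.Prime]

/-- The image of a subspace under an invertible matrix. -/
def act (g : GL (Fin 2) (ZMod p)) (l : Submodule (ZMod p) (Fin 2 → ZMod p)) :
    Submodule (ZMod p) (Fin 2 → ZMod p) :=
  l.map (Matrix.mulVecLin (g : Matrix (Fin 2) (Fin 2) (ZMod p)))

/-- A configuration: `W` is a subgroup of `GL₂(p)` of order prime to `p`, `L` a `W`-invariant set of lines such that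
for every `l` in `L` and every unit `a` some element of `W` acts as `a⁻¹` on `l` and has determinant `a`. -/
structure Conf (W : Subgroup (GL (Fin 2) (ZMod p))) (L : Set (Submodule (ZMod p) (Fin 2 → ZMod p))) : Prop where
  pprime : ¬ p ∣ Nat.card W
  line : ∀ l ∈ L, Module.finrank (ZMod p) l = 1
  inv : ∀ w ∈ W, ∀ l ∈ L, act w l ∈ L
  diag : ∀ l ∈ L, ∀ a : (ZMod p)ˣ, ∃ w ∈ W,
    (∀ v ∈ l, (w : Matrix (Fin 2) (Fin 2) (ZMod p)) *ᵥ v = ((a⁻¹ : (ZMod p)ˣ) : ZMod p) • v) ∧
      (w : Matrix (Fin 2) (Fin 2) (ZMod p)).det = a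

end Cfsg.Agent.H775.Cube
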