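import Cfsg.Agent.H775.CubeP3

set_option autoImplicit false
set_option linter.unusedSectionVars false

/-!
# Configurations of lines: final statements (submodule form)

* `primes_of_three` : three lines imply `p ∈ {3, 5, 7, 13}`;
* `conj_of_three` : for `p ≠ 2, 3, 7` two configurations with at least three lines are conjugate;
* `conj_of_three_three` : the same for `p = 3` if the two groups have the same order;
* `two_lines` : the case of exactly two lines.
-/

namespace Cfsg.Agent.H775.Cube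

open Matrix

variable {p : ℕ} [hp : Fact p.Prime]

/-- The nonzero vectors on the lines of `L`. -/
def vecs (L : Set (Submodule (ZMod p) (Fin 2 → ZMod p))) : Set (Fin 2 → ZMod p) :=
  {v | v ≠ 0 ∧ Submodule.span (ZMod p) {v} ∈ L}

variable {W W' : Subgroup (GL (Fin 2) (ZMod p))} {L L' : Set (Submodule (ZMod p) (Fin 2 → ZMod p))}

theorem act_span (g : GL (Fin 2) (ZMod p)) (v : Fin 2 → ZMod p) :
    act g (Submodule.span (ZMod p) {v}) = Submodule.span (ZMod p) {(g : Matrix (Fin 2) (Fin 2) (ZMod p)) *ᵥ v} := by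
  unfold act
  rw [Submodule.map_span, Set.image_singleton, Matrix.mulVecLin_apply]

theorem mulVec_ne (g : GL (Fin 2) (ZMod p)) {v : Fin 2 → ZMod p} (hv : v ≠ 0) :
    (g : Matrix (Fin 2) (Fin 2) (ZMod p)) *ᵥ v ≠ 0 := by
  intro h
  apply hv
  rw [← inv_mulVec g v, h, Matrix.mulVec_zero]

theorem Conf.vconf (h : Conf W L) : VConf W (vecs L) := by
  refine ⟨h.pprime, fun v hv => hv.1, ?_, ?_, ?_⟩
  · rintro v ⟨hv, hvL⟩ c hc
    refine ⟨smul_ne_zero hc hv, ?_⟩
    rwa [Submodule.span_singleton_smul_eq (IsUnit.mk0 c hc)]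
  · rintro w hw v ⟨hv, hvL⟩
    refine ⟨mulVec_ne w hv, ?_⟩
    rw [← act_span]
    exact h.inv w hw _ hvL
  · rintro v ⟨hv, hvL⟩ a
    obtain ⟨w, hw, h1, h2⟩ := h.diag _ hvL a
    exact ⟨w, hw, h1 v (Submodule.mem_span_singleton_self v), h2⟩

theorem exists_vec (hL : ∀ l ∈ L, Module.finrank (ZMod p) l = 1) {l : Submodule (ZMod p) (Fin 2 → ZMod p)} (hl : l ∈ L) :
    ∃ v ∈ vecs L, l = Submodule.span (ZMod p) {v} := by
  obtain ⟨⟨v, hv⟩, hv0, hv1⟩ := finrank_eq_one_iff'.1 (hL l hl)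
  have hv0' : v ≠ 0 := fun h => hv0 (Subtype.ext h)
  have h1 : l = Submodule.span (ZMod p) {v} := by
    apply le_antisymm
    · intro w hw
      obtain ⟨c, hc⟩ := hv1 ⟨w, hw⟩
      rw [Submodule.mem_span_singleton]
      exact ⟨c, congrArg Subtype.val hc⟩
    · rw [Submodule.span_singleton_le_iff_mem]
      exact hv
  exact ⟨v, ⟨hv0', by rw [← h1]; exact hl⟩, h1⟩

theorem span_eq_of_det {u v : Fin 2 → ZMod p} (hu : u ≠ 0) (hv : v ≠ 0) (h : u 0 * v 1 - u 1 * v 0 = 0) :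
    Submodule.span (ZMod p) {u} = Submodule.span (ZMod p) {v} := by
  obtain ⟨c, rfl⟩ := exists_smul hu h
  have hc : c ≠ 0 := by
    rintro rfl
    exact hv (zero_smul _ _)
  exact (Submodule.span_singleton_smul_eq (IsUnit.mk0 c hc) u).symm

theorem det_of_span_eq {u v : Fin 2 → ZMod p} (h : Submodule.span (ZMod p) {u} = Submodule.span (ZMod p) {v}) :
    u 0 * v 1 - u 1 * v 0 = 0 := by
  have h1 : v ∈ Submodule.span (ZMod p) {u} := by rw [h]; exact Submodule.mem_span_singleton_self v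
  obtain ⟨c, rfl⟩ := Submodule.mem_span_singleton.1 h1
  simp only [Pi.smul_apply, smul_eq_mul]
  ring

theorem threeV_of_ncard (hL : ∀ l ∈ L, Module.finrank (ZMod p) l = 1) (h3 : 3 ≤ L.ncard) : ThreeV (vecs L) := by
  obtain ⟨a, b, c, ha, hb, hc, hab, hac, hbc⟩ := (Set.two_lt_ncard_iff (Set.toFinite L)).1 h3
  obtain ⟨u, hu, rfl⟩ := exists_vec hL ha
  obtain ⟨v, hv, rfl⟩ := exists_vec hL hb
  obtain ⟨w, hw, rfl⟩ := exists_vec hL hc
  exact ⟨u, hu, v, hv, w, hw, fun h => hab (span_eq_of_det hu.1 hv.1 h), fun h => hac (span_eq_of_det hu.1 hw.1 h),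
    fun h => hbc (span_eq_of_det hv.1 hw.1 h)⟩

theorem eq_of_vecs (hL : ∀ l ∈ L, Module.finrank (ZMod p) l = 1) (hL' : ∀ l ∈ L', Module.finrank (ZMod p) l = 1)
    {g : GL (Fin 2) (ZMod p)} (h : vecs L' = img g (vecs L)) : L' = act g '' L := by
  ext l
  constructor
  · intro hl
    obtain ⟨v, hv, rfl⟩ := exists_vec hL' hl
    rw [h] at hv
    obtain ⟨u, hu, hu'⟩ := hv
    refine ⟨Submodule.span (ZMod p) {u}, hu.2, ?_⟩
    rw [act_span]
    change Submodule.span (ZMod p) {(fun v => (g : Matrix (Fin 2) (Fin 2) (ZMod p)) *ᵥ v) u} = _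
    rw [hu']
  · rintro ⟨m, hm, rfl⟩
    obtain ⟨u, hu, rfl⟩ := exists_vec hL hm
    have h1 : (g : Matrix (Fin 2) (Fin 2) (ZMod p)) *ᵥ u ∈ vecs L' := by
      rw [h]
      exact ⟨u, hu, rfl⟩
    rw [act_span]
    exact h1.2

/-- Three lines imply `p ∈ {3, 5, 7, 13}`. -/
theorem primes_of_threeV (hp2 : p ≠ 2) {M : Set (Fin 2 → ZMod p)} (h : VConf W M) (h3 : ThreeV M) :
    p = 3 ∨ p = 5 ∨ p = 7 ∨ p = 13 := by
  obtain ⟨lam, hlam⟩ := IsCyclic.exists_generator (α := (ZMod p)ˣ)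
  obtain ⟨a, ha, b, hb, c, hc, hab, hac, hbc⟩ := h3
  have hmem : ∀ i : Fin 3, (![a, b, c] : Fin 3 → Fin 2 → ZMod p) i ∈ M := by
    intro i
    fin_cases i
    · exact ha
    · exact hb
    · exact hc
  have hdet : ∀ i j : Fin 3, i ≠ j → ((![a, b, c] : Fin 3 → Fin 2 → ZMod p) j) 0 * ((![a, b, c] : Fin 3 → Fin 2 → ZMod p) i) 1 -
      ((![a, b, c] : Fin 3 → Fin 2 → ZMod p) j) 1 * ((![a, b, c] : Fin 3 → Fin 2 → ZMod p) i) 0 ≠ 0 := by
    intro i j hij
    fin_cases i <;> fin_cases j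
    · exact absurd rfl hij
    · change b 0 * a 1 - b 1 * a 0 ≠ 0
      intro h; apply hab; linear_combination -h
    · change c 0 * a 1 - c 1 * a 0 ≠ 0
      intro h; apply hac; linear_combination -h
    · exact hab
    · exact absurd rfl hij
    · change c 0 * b 1 - c 1 * b 0 ≠ 0
      intro h; apply hbc; linear_combination -h
    · exact hac
    · exact hbc
    · exact absurd rfl hij
  have h1 := Cfsg.Agent.H275.GLTwoFix.three_lines hp2 W h.pprime lam hlam ![a, b, c]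
    (fun i => h.ne _ (hmem i)) (fun i j hij c' hc' => hdet i j hij (by rw [← hc']; exact det_smul _ _))
    (fun i => h.diag _ (hmem i) lam)
  obtain ⟨h2, h3⟩ := h1
  have h4 := hp.out
  interval_cases p <;> first | omega | (exfalso; revert h4; decide)

theorem primes_of_three (hp2 : p ≠ 2) (h : Conf W L) (h3 : 3 ≤ L.ncard) : p = 3 ∨ p = 5 ∨ p = 7 ∨ p = 13 :=
  primes_of_threeV hp2 h.vconf (threeV_of_ncard h.line h3)

/-- For `p ≠ 3, 5, 7, 13` there are at most two lines. -/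
theorem le_two (hp2 : p ≠ 2) (hp3 : p ≠ 3) (hp5 : p ≠ 5) (hp7 : p ≠ 7) (hp13 : p ≠ 13) (h : Conf W L) :
    L.ncard ≤ 2 := by
  by_contra hcon
  rcases primes_of_three hp2 h (by omega) with h | h | h | h
  · exact hp3 h
  · exact hp5 h
  · exact hp7 h
  · exact hp13 h

/-- **Uniqueness** for `p = 5, 13`. -/
theorem conj_of_three (hp2 : p ≠ 2) (hp3 : p ≠ 3) (hp7 : p ≠ 7) (h : Conf W L) (h' : Conf W' L') (h3 : 3 ≤ L.ncard)
    (h3' : 3 ≤ L'.ncard) :
    ∃ g : GL (Fin 2) (ZMod p), W' = W.map (MulAut.conj g).toMonoidHom ∧ L' = act g '' L := by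
  have hp' : p = 5 ∨ p = 13 := by
    rcases primes_of_three hp2 h h3 with h | h | h | h
    · exact absurd h hp3
    · exact Or.inl h
    · exact absurd h hp7
    · exact Or.inr h
  obtain ⟨g, h1, h2⟩ := conj_of_three_vec hp' h.vconf (threeV_of_ncard h.line h3) h'.vconf (threeV_of_ncard h'.line h3')
  exact ⟨g, h1, eq_of_vecs h.line h'.line h2⟩

/-- **Uniqueness** for `p = 3`. -/
theorem conj_of_three_p3 [Fact (Nat.Prime 3)] {W W' : Subgroup (GL (Fin 2) (ZMod 3))}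
    {L L' : Set (Submodule (ZMod 3) (Fin 2 → ZMod 3))} (h : Conf W L) (h' : Conf W' L') (h3 : 3 ≤ L.ncard)
    (h3' : 3 ≤ L'.ncard) (hc : Nat.card W = Nat.card W') :
    ∃ g : GL (Fin 2) (ZMod 3), W' = W.map (MulAut.conj g).toMonoidHom ∧ L' = act g '' L := by
  obtain ⟨g, h1, h2⟩ := conj_of_three_three h.vconf (threeV_of_ncard h.line h3) h'.vconf (threeV_of_ncard h'.line h3') hc
  exact ⟨g, h1, eq_of_vecs h.line h'.line h2⟩

/-- The order of `W` for `p = 3` and three lines. -/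
theorem card_of_three_p3 [Fact (Nat.Prime 3)] {W : Subgroup (GL (Fin 2) (ZMod 3))}
    {L : Set (Submodule (ZMod 3) (Fin 2 → ZMod 3))} (h : Conf W L) (h3 : 3 ≤ L.ncard) :
    Nat.card W = 8 ∨ Nat.card W = 16 := by
  have hp3 : 3 = 3 ∨ 3 = 5 ∨ 3 = 13 := Or.inl rfl
  obtain ⟨g, hg, hg1⟩ := exists_std_one (by norm_num) h.vconf (threeV_of_ncard h.line h3)
  have e1 := hg.W1_le hp3 hg1
  have hk1 : Nat.card (W.map (MulAut.conj g).toMonoidHom) = Nat.card W :=
    Subgroup.card_map_of_injective (MulAut.conj g).injective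
  rw [← hk1]
  exact card_of_three e1 hg.pprime

/-- **Two lines**. -/
theorem two_lines (h : Conf W L) (h2 : L.ncard = 2) :
    ∃ g : GL (Fin 2) (ZMod p),
      act g '' L = {Submodule.span (ZMod p) {![1, 0]}, Submodule.span (ZMod p) {![0, 1]}} ∧
      (∀ a : (ZMod p)ˣ, ∃ w ∈ W.map (MulAut.conj g).toMonoidHom,
        (w : Matrix (Fin 2) (Fin 2) (ZMod p)) = !![((a⁻¹ : (ZMod p)ˣ) : ZMod p), 0; 0, (a : ZMod p) ^ 2]) ∧
      (∀ a : (ZMod p)ˣ, ∃ w ∈ W.map (MulAut.conj g).toMonoidHom,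
        (w : Matrix (Fin 2) (Fin 2) (ZMod p)) = !![(a : ZMod p) ^ 2, 0; 0, ((a⁻¹ : (ZMod p)ˣ) : ZMod p)]) ∧
      (∀ w ∈ W.map (MulAut.conj g).toMonoidHom, ∃ a b : ZMod p,
        (w : Matrix (Fin 2) (Fin 2) (ZMod p)) = !![a, 0; 0, b] ∨
          (w : Matrix (Fin 2) (Fin 2) (ZMod p)) = !![0, a; b, 0]) := by
  obtain ⟨l1, l2, hne, hL⟩ := Set.ncard_eq_two.1 h2
  obtain ⟨u, hu, rfl⟩ := exists_vec h.line (show l1 ∈ L by rw [hL]; exact Set.mem_insert _ _)
  obtain ⟨v, hv, rfl⟩ := exists_vec h.line (show l2 ∈ L by rw [hL]; exact Set.mem_insert_of_mem _ rfl)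
  have hd : u 0 * v 1 - u 1 * v 0 ≠ 0 := fun h => hne (span_eq_of_det hu.1 hv.1 h)
  obtain ⟨g, hgu, hgv⟩ := exists_gl hd
  have hconf := h.vconf.conj g
  have he1 : ![1, 0] ∈ img g (vecs L) := ⟨u, hu, hgu⟩
  have he2 : ![0, 1] ∈ img g (vecs L) := ⟨v, hv, hgv⟩
  -- the vectors of the set are on the axes
  have hax : ∀ x ∈ img g (vecs L), x 0 = 0 ∨ x 1 = 0 := by
    rintro x ⟨y, hy, rfl⟩
    have hyL := hy.2
    rw [hL] at hyL
    rcases hyL with h3 | h3
    · right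
      have h4 := det_of_span_eq h3.symm
      have h5 := det_mulVec g u y
      rw [h4, mul_zero, hgu] at h5
      simpa using h5
    · left
      have h4 := det_of_span_eq (Set.mem_singleton_iff.1 h3).symm
      have h5 := det_mulVec g v y
      rw [h4, mul_zero, hgv] at h5
      change ((g : Matrix (Fin 2) (Fin 2) (ZMod p)) *ᵥ y) 0 = 0
      simp only [Matrix.cons_val_zero, Matrix.cons_val_one] at h5
      linear_combination -h5
  have hc1 : ∀ w ∈ W.map (MulAut.conj g).toMonoidHom,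
      (w : Matrix (Fin 2) (Fin 2) (ZMod p)) 0 0 = 0 ∨ (w : Matrix (Fin 2) (Fin 2) (ZMod p)) 1 0 = 0 := by
    intro w hw
    have h3 := hax _ (hconf.inv w hw _ he1)
    rw [mulVec_zero_apply, mulVec_one_apply] at h3
    simpa using h3
  have hc2 : ∀ w ∈ W.map (MulAut.conj g).toMonoidHom,
      (w : Matrix (Fin 2) (Fin 2) (ZMod p)) 0 1 = 0 ∨ (w : Matrix (Fin 2) (Fin 2) (ZMod p)) 1 1 = 0 := by
    intro w hw
    have h3 := hax _ (hconf.inv w hw _ he2)
    rw [mulVec_zero_apply, mulVec_one_apply] at h3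
    simpa using h3
  refine ⟨g, ?_, ?_, ?_, ?_⟩
  · rw [hL, Set.image_insert_eq, Set.image_singleton, act_span, act_span, hgu, hgv]
  · intro a
    obtain ⟨w, hw, h3, h4⟩ := hconf.diag _ he1 a
    refine ⟨w, hw, ?_⟩
    have e0 := congrFun h3 0
    have e1 := congrFun h3 1
    rw [mulVec_zero_apply] at e0
    rw [mulVec_one_apply] at e1
    simp only [Matrix.cons_val_zero, Matrix.cons_val_one, mul_one, mul_zero, add_zero, Pi.smul_apply, smul_eq_mul] at e0 e1
    have hd := gl_det_ne w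
    rw [Matrix.det_fin_two] at hd h4
    rw [e1, mul_zero, sub_zero] at hd h4
    have h01 : (w : Matrix (Fin 2) (Fin 2) (ZMod p)) 0 1 = 0 := (hc2 w hw).resolve_right (right_ne_zero_of_mul hd)
    have h11 : (w : Matrix (Fin 2) (Fin 2) (ZMod p)) 1 1 = (a : ZMod p) ^ 2 := by
      rw [e0] at h4
      have h5 : (a : ZMod p) * ((a⁻¹ : (ZMod p)ˣ) : ZMod p) = 1 := Units.mul_inv a
      linear_combination (a : ZMod p) * h4 - (w : Matrix (Fin 2) (Fin 2) (ZMod p)) 1 1 * h5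
    ext i j
    fin_cases i <;> fin_cases j
    · exact e0
    · exact h01
    · exact e1
    · exact h11
  · intro a
    obtain ⟨w, hw, h3, h4⟩ := hconf.diag _ he2 a
    refine ⟨w, hw, ?_⟩
    have e0 := congrFun h3 0
    have e1 := congrFun h3 1
    rw [mulVec_zero_apply] at e0
    rw [mulVec_one_apply] at e1
    simp only [Matrix.cons_val_zero, Matrix.cons_val_one, mul_one, mul_zero, zero_add, Pi.smul_apply, smul_eq_mul] at e0 e1
    have hd := gl_det_ne w
    rw [Matrix.det_fin_two] at hd h4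
    rw [e0, zero_mul, sub_zero] at hd h4
    have h10 : (w : Matrix (Fin 2) (Fin 2) (ZMod p)) 1 0 = 0 := (hc1 w hw).resolve_left (left_ne_zero_of_mul hd)
    have h00 : (w : Matrix (Fin 2) (Fin 2) (ZMod p)) 0 0 = (a : ZMod p) ^ 2 := by
      rw [e1] at h4
      have h5 : (a : ZMod p) * ((a⁻¹ : (ZMod p)ˣ) : ZMod p) = 1 := Units.mul_inv a
      linear_combination (a : ZMod p) * h4 - (w : Matrix (Fin 2) (Fin 2) (ZMod p)) 0 0 * h5
    ext i j
    fin_cases i <;> fin_cases j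
    · exact h00
    · exact e0
    · exact h10
    · exact e1
  · intro w hw
    have hd := gl_det_ne w
    rw [Matrix.det_fin_two] at hd
    rcases hc1 w hw with h3 | h3
    · refine ⟨(w : Matrix (Fin 2) (Fin 2) (ZMod p)) 0 1, (w : Matrix (Fin 2) (Fin 2) (ZMod p)) 1 0, Or.inr ?_⟩
      rw [h3, zero_mul, zero_sub] at hd
      have h4 := (hc2 w hw).resolve_left (left_ne_zero_of_mul (neg_ne_zero.1 hd))
      ext i j
      fin_cases i <;> fin_cases j
      · exact h3
      · rfl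
      · rfl
      · exact h4
    · refine ⟨(w : Matrix (Fin 2) (Fin 2) (ZMod p)) 0 0, (w : Matrix (Fin 2) (Fin 2) (ZMod p)) 1 1, Or.inl ?_⟩
      rw [h3, mul_zero, sub_zero] at hd
      have h4 := (hc2 w hw).resolve_right (right_ne_zero_of_mul hd)
      ext i j
      fin_cases i <;> fin_cases j
      · rfl
      · exact h4
      · exact h3
      · rfl

end Cfsg.Agent.H775.Cube
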