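import Mathlib

/-!
# Counting Sylow subgroups of order `p^3` (helper775)

`G` finite, `P` a Sylow `p`-subgroup of order `p^3` such that the subgroups `V` of order `p^2` of `P` are
self-centralizing. Then the number of Sylow `p`-subgroups is `1 + p k` modulo `p^2`, `k` the number of subgroups of
order `p^2` of `P` contained in another Sylow `p`-subgroup.
-/

set_option autoImplicit false

namespace Cfsg.Agent.H775.CountCube

open Subgroup MulAction
open scoped Pointwise

/-- If all orbits have cardinality divisible by `m`, so has the set. -/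
theorem dvd_card_of_orbit {Γ X : Type*} [Group Γ] [MulAction Γ X] [Finite X] {m : ℕ}
    (h : ∀ x : X, m ∣ Nat.card (MulAction.orbit Γ x)) : m ∣ Nat.card X := by
  classical
  have : Fintype X := Fintype.ofFinite X
  rw [Nat.card_congr (MulAction.selfEquivSigmaOrbits Γ X)]
  have hf : Finite (MulAction.orbitRel.Quotient Γ X) := Quotient.finite _
  have : Fintype (MulAction.orbitRel.Quotient Γ X) := Fintype.ofFinite _
  rw [Nat.card_sigma]
  exact Finset.dvd_sum fun ω _ => h _

/-- The same for an invariant subset. -/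
theorem dvd_card_of_orbit_pred {Γ X : Type*} [Group Γ] [MulAction Γ X] [Finite X] {m : ℕ}
    (M : X → Prop) (hM : ∀ (g : Γ) (x : X), M x → M (g • x))
    (h : ∀ x : X, M x → m ∣ (MulAction.stabilizer Γ x).index) : m ∣ Nat.card {x : X // M x} := by
  let Y : SubMulAction Γ X := { carrier := {x | M x}, smul_mem' := fun g x hx => hM g x hx }
  have hY : m ∣ Nat.card Y := by
    refine dvd_card_of_orbit (Γ := Γ) fun y => ?_
    have h1 := MulAction.index_stabilizer (G := Γ) (x := y)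
    rw [SubMulAction.stabilizer_of_subMul] at h1
    rw [Nat.card_coe_set_eq, ← h1]
    exact h y y.2
  exact hY

variable {G : Type*} [Group G] [Finite G] {p : ℕ} [hp : Fact p.Prime]

omit [Finite G] in
/-- A subgroup of order `p^2` of a group of order `p^3` is normal. -/
theorem conj_mem {P V : Subgroup G} (hP : Nat.card P = p ^ 3) (hVP : V ≤ P)
    (hV : Nat.card V = p ^ 2) {g v : G} (hg : g ∈ P) (hv : v ∈ V) : g * v * g⁻¹ ∈ V := by
  have h1 : Nat.card (V.subgroupOf P) = p ^ 2 := by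
    rw [Nat.card_congr (Subgroup.subgroupOfEquivOfLe hVP).toEquiv, hV]
  have h2 : (V.subgroupOf P).index = p := by
    have h3 := (V.subgroupOf P).card_mul_index
    rw [h1, hP, pow_succ p 2] at h3
    exact Nat.eq_of_mul_eq_mul_left (pow_pos hp.out.pos 2) h3
  have h4 : (V.subgroupOf P).Normal := by
    refine Subgroup.normal_of_index_eq_minFac_card ?_
    rw [h2, hP, Nat.Prime.pow_minFac hp.out (by norm_num)]
  have h5 := h4.conj_mem ⟨v, hVP hv⟩ (Subgroup.mem_subgroupOf.2 hv) ⟨g, hg⟩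
  exact Subgroup.mem_subgroupOf.1 h5

omit [Finite G] hp in
theorem mem_stabilizer_iff' {P Q : Sylow p G} (x : (P : Subgroup G)) :
    x ∈ MulAction.stabilizer (P : Subgroup G) Q ↔ (x : G) ∈ (Q : Subgroup G) := by
  have h1 := (P.isPGroup').inf_normalizer_sylow Q
  rw [MulAction.mem_stabilizer_iff]
  have h2 : x • Q = Q ↔ (x : G) • Q = Q := Iff.rfl
  rw [h2, Sylow.smul_eq_iff_mem_normalizer]
  constructor
  · intro h
    have h3 : (x : G) ∈ (P : Subgroup G) ⊓ Subgroup.normalizer (Q : Set G) := ⟨x.2, h⟩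
    rw [h1] at h3
    exact h3.2
  · intro h
    have h3 : (x : G) ∈ (P : Subgroup G) ⊓ (Q : Subgroup G) := ⟨x.2, h⟩
    rw [← h1] at h3
    exact h3.2

omit [Finite G] hp in
theorem stabilizer_eq (P Q : Sylow p G) :
    MulAction.stabilizer (P : Subgroup G) Q = (Q : Subgroup G).subgroupOf P := by
  ext x
  rw [mem_stabilizer_iff', Subgroup.mem_subgroupOf]

omit [Finite G] in
theorem card_inf_mul (P Q : Subgroup G) :
    Nat.card ↥(P ⊓ Q) * (Q.subgroupOf P).index = Nat.card P := by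
  rw [← (Q.subgroupOf P).card_mul_index]
  congr 1
  rw [← Subgroup.inf_subgroupOf_right Q P, inf_comm]
  exact (Nat.card_congr (Subgroup.subgroupOfEquivOfLe inf_le_right).toEquiv).symm

theorem inf_eq {P Q : Sylow p G} (hP : Nat.card P = p ^ 3) (hne : Q ≠ P) {V : Subgroup G}
    (hV : Nat.card V = p ^ 2) (hVP : V ≤ P) (hVQ : V ≤ Q) : (P : Subgroup G) ⊓ Q = V := by
  have hle : V ≤ (P : Subgroup G) ⊓ Q := le_inf hVP hVQ
  have h1 : Nat.card ↥((P : Subgroup G) ⊓ Q) ∣ p ^ 3 := by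
    rw [← hP]; exact Subgroup.card_dvd_of_le inf_le_left
  obtain ⟨i, hi, h2⟩ := (Nat.dvd_prime_pow hp.out).1 h1
  have h3 : p ^ 2 ∣ p ^ i := by rw [← h2, ← hV]; exact Subgroup.card_dvd_of_le hle
  have h4 : 2 ≤ i := (Nat.pow_dvd_pow_iff_le_right hp.out.one_lt).1 h3
  have h5 : i ≠ 3 := by
    rintro rfl
    apply hne
    have hc : Nat.card Q = p ^ 3 := by
      rw [← hP]
      exact Nat.card_congr (Sylow.equiv Q P).toEquiv
    have e1 : (P : Subgroup G) ⊓ Q = P := Subgroup.eq_of_le_of_card_ge inf_le_left (by rw [h2, hP])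
    have e2 : (P : Subgroup G) ⊓ Q = Q := Subgroup.eq_of_le_of_card_ge inf_le_right (by rw [h2, hc])
    exact Sylow.ext (e2.symm.trans e1)
  have h6 : i = 2 := by omega
  subst h6
  exact (Subgroup.eq_of_le_of_card_ge hle (by rw [h2, hV])).symm

/-- `p` divides the number of Sylow subgroups `≠ P` containing `V`. -/
theorem dvd_card_above {P : Sylow p G} (hP : Nat.card P = p ^ 3) {V : Subgroup G}
    (hV : Nat.card V = p ^ 2) (hVP : V ≤ P) : p ∣ Nat.card {Q : Sylow p G // V ≤ Q ∧ Q ≠ P} := by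
  refine dvd_card_of_orbit_pred (Γ := (P : Subgroup G)) _ (fun g Q hQ => ?_) (fun Q hQ => ?_)
  · refine ⟨fun v hv => ?_, fun h => hQ.2 ?_⟩
    · have h1 : (g : G)⁻¹ * v * (g : G)⁻¹⁻¹ ∈ V := conj_mem hP hVP hV (inv_mem g.2) hv
      have h2 := hQ.1 h1
      rw [inv_inv] at h2
      have h3 : (g • Q : Sylow p G) = (g : G) • Q := rfl
      rw [h3]
      show v ∈ MulAut.conj (g : G) • (Q : Subgroup G)
      rw [Subgroup.mem_pointwise_smul_iff_inv_smul_mem]
      simpa [MulAut.smul_def] using h2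
    · have h3 : (g • P : Sylow p G) = P := by
        have h4 : (g • P : Sylow p G) = (g : G) • P := rfl
        rw [h4, Sylow.smul_eq_iff_mem_normalizer]
        exact Subgroup.le_normalizer g.2
      exact MulAction.injective g (h.trans h3.symm)
  · rw [stabilizer_eq]
    have h1 := card_inf_mul (P : Subgroup G) Q
    rw [inf_eq hP hQ.2 hV hVP hQ.1, hV] at h1
    have h2 : ((Q : Subgroup G).subgroupOf P).index = p := by
      refine Nat.eq_of_mul_eq_mul_left (pow_pos hp.out.pos 2) (h1.trans ?_)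
      rw [← pow_succ]
      exact hP
    rw [h2]

/-- The elements of `V` centralized by `Q`. -/
def ZZ (V Q : Subgroup G) : Subgroup G := V ⊓ Subgroup.centralizer (Q : Set G)

theorem card_ZZ {Q : Subgroup G} (hQ : Nat.card Q = p ^ 3) {V : Subgroup G}
    (hV : Nat.card V = p ^ 2) (hVQ : V ≤ Q)
    (hC : ∀ g : G, (∀ v ∈ V, g * v = v * g) → g ∈ V) :
    Nat.card (ZZ V Q) = p ∧ (Subgroup.center Q).map Q.subtype = ZZ V Q := by
  have hQp : IsPGroup p Q := IsPGroup.of_card hQ
  have h1 : (Subgroup.center Q).map Q.subtype = ZZ V Q := by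
    ext x
    constructor
    · rintro ⟨y, hy, rfl⟩
      have hy' := Subgroup.mem_center_iff.1 hy
      have h2 : ∀ q ∈ Q, q * (y : G) = y * q := fun q hq => congrArg Subtype.val (hy' ⟨q, hq⟩)
      exact ⟨hC _ fun v hv => (h2 v (hVQ hv)).symm, Subgroup.mem_centralizer_iff.2 h2⟩
    · rintro ⟨hx, hx'⟩
      refine ⟨⟨x, hVQ hx⟩, Subgroup.mem_center_iff.2 fun q => Subtype.ext ?_, rfl⟩
      exact Subgroup.mem_centralizer_iff.1 hx' q q.2
  have hnt : Nontrivial Q := by
    rw [← Finite.one_lt_card_iff_nontrivial, hQ]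
    exact one_lt_pow₀ hp.out.one_lt (by norm_num)
  have h2 : Nontrivial (Subgroup.center Q) := hQp.center_nontrivial
  have h3 : Nat.card (ZZ V Q) = Nat.card (Subgroup.center Q) := by
    rw [← h1]
    exact (Nat.card_congr ((Subgroup.center Q).equivMapOfInjective Q.subtype
      (Subgroup.subtype_injective Q)).toEquiv).symm
  have h4 : Nat.card (ZZ V Q) ∣ p ^ 2 := by
    rw [← hV]; exact Subgroup.card_dvd_of_le inf_le_left
  obtain ⟨i, hi, h5⟩ := (Nat.dvd_prime_pow hp.out).1 h4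
  have h6 : i ≠ 0 := by
    rintro rfl
    rw [pow_zero] at h5
    rw [h5] at h3
    have := Finite.one_lt_card_iff_nontrivial.2 h2
    omega
  have h7 : i ≠ 2 := by
    rintro rfl
    have h8 : ZZ V Q = V := Subgroup.eq_of_le_of_card_ge inf_le_left (by rw [h5, hV])
    have h9 : Q ≤ V := fun q hq => hC q fun v hv => by
      rw [← h8] at hv
      exact Subgroup.mem_centralizer_iff.1 hv.2 q hq
    have h10 := Subgroup.card_le_of_le h9
    rw [hQ, hV] at h10
    have h11 := Nat.pow_lt_pow_right hp.out.one_lt (show 2 < 3 by norm_num)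
    omega
  have h8 : i = 1 := by omega
  subst h8
  rw [pow_one] at h5
  exact ⟨h5, h1⟩

/-- Two Sylow subgroups containing `V` with a common nontrivial central element in `V` are equal. -/
theorem eq_of_mem_ZZ {Q Q' : Sylow p G} (hQ : Nat.card Q = p ^ 3) {V : Subgroup G}
    (hV : Nat.card V = p ^ 2) (hVQ : V ≤ Q) (hVQ' : V ≤ Q')
    (hC : ∀ g : G, (∀ v ∈ V, g * v = v * g) → g ∈ V) {z : G} (hz1 : z ≠ 1)
    (hz : z ∈ ZZ V Q) (hz' : z ∈ ZZ V Q') : Q = Q' := by
  have hQ' : Nat.card Q' = p ^ 3 := by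
    rw [← hQ]; exact Nat.card_congr (Sylow.equiv Q' Q).toEquiv
  have hVc : ∀ a ∈ V, ∀ b ∈ V, a * b = b * a := by
    intro a ha b hb
    have h := (IsPGroup.isMulCommutative_of_card_eq_prime_sq hV).is_comm.comm (⟨a, ha⟩ : V) ⟨b, hb⟩
    exact congrArg Subtype.val h
  -- the group of elements acting trivially on `⟨z⟩` and on `V / ⟨z⟩`
  let K : Subgroup G :=
    { carrier := {g | g * z = z * g ∧ ∀ v ∈ V, g * v * g⁻¹ * v⁻¹ ∈ Subgroup.zpowers z}
      mul_mem' := by
        rintro g h ⟨hg, hg'⟩ ⟨hh, hh'⟩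
        have hgc : ∀ c ∈ Subgroup.zpowers z, g * c = c * g := by
          rintro _ ⟨n, rfl⟩
          exact (Commute.zpow_right (show Commute g z from hg) n)
        refine ⟨?_, fun v hv => ?_⟩
        · calc g * h * z = g * (h * z) := by group
            _ = g * z * h := by rw [hh]; group
            _ = z * (g * h) := by rw [hg]; group
        · have e1 := hh' v hv
          have e2 := hg' v hv
          have e3 : g * h * v * (g * h)⁻¹ * v⁻¹ =
              (g * (h * v * h⁻¹ * v⁻¹)) * g⁻¹ * (g * v * g⁻¹ * v⁻¹) := by group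
          rw [e3, hgc _ e1]
          have e4 : h * v * h⁻¹ * v⁻¹ * g * g⁻¹ * (g * v * g⁻¹ * v⁻¹) =
              (h * v * h⁻¹ * v⁻¹) * (g * v * g⁻¹ * v⁻¹) := by group
          rw [e4]
          exact mul_mem e1 e2
      one_mem' := ⟨by group, fun v _ => by
        have : (1 : G) * v * 1⁻¹ * v⁻¹ = 1 := by group
        rw [this]; exact one_mem _⟩
      inv_mem' := by
        rintro g ⟨hg, hg'⟩
        have hgc : ∀ c ∈ Subgroup.zpowers z, g * c = c * g := by
          rintro _ ⟨n, rfl⟩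
          exact (Commute.zpow_right (show Commute g z from hg) n)
        refine ⟨?_, fun v hv => ?_⟩
        · calc g⁻¹ * z = g⁻¹ * (z * g) * g⁻¹ := by group
            _ = z * g⁻¹ := by rw [← hg]; group
        · have e1 := inv_mem (hg' v hv)
          have e2 : g⁻¹ * v * g⁻¹⁻¹ * v⁻¹ = g⁻¹ * ((g * v * g⁻¹ * v⁻¹)⁻¹ * g) := by group
          rw [e2, ← hgc _ e1]
          have e3 : g⁻¹ * (g * (g * v * g⁻¹ * v⁻¹)⁻¹) = (g * v * g⁻¹ * v⁻¹)⁻¹ := by group
          rw [e3]
          exact e1 }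
  have hKp : IsPGroup p K := by
    rintro ⟨g, hg, hg'⟩
    have hzV : z ∈ V := hz.1
    have hgc : ∀ c ∈ Subgroup.zpowers z, g * c = c * g := by
      rintro _ ⟨n, rfl⟩
      exact (Commute.zpow_right (show Commute g z from hg) n)
    have key : ∀ (n : ℕ), ∀ v ∈ V, g ^ n * v * (g ^ n)⁻¹ = (g * v * g⁻¹ * v⁻¹) ^ n * v := by
      intro n v hv
      induction n with
      | zero => simp
      | succ n ih =>
        have hc := hg' v hv
        have hcn := pow_mem hc n
        calc g ^ (n + 1) * v * (g ^ (n + 1))⁻¹ = g * (g ^ n * v * (g ^ n)⁻¹) * g⁻¹ := by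
              rw [pow_succ']; group
          _ = g * (g * v * g⁻¹ * v⁻¹) ^ n * v * g⁻¹ := by rw [ih]; group
          _ = (g * v * g⁻¹ * v⁻¹) ^ n * g * v * g⁻¹ := by rw [hgc _ hcn]
          _ = (g * v * g⁻¹ * v⁻¹) ^ n * (g * v * g⁻¹ * v⁻¹) * v := by group
          _ = (g * v * g⁻¹ * v⁻¹) ^ (n + 1) * v := by rw [← pow_succ]
    have h1 : g ^ (p ^ 2) ∈ V := by
      refine hC _ fun v hv => ?_
      have h2 := key (p ^ 2) v hv
      have h3 : (g * v * g⁻¹ * v⁻¹) ∈ V := (Subgroup.zpowers_le.2 hzV) (hg' v hv)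
      have h4 : (g * v * g⁻¹ * v⁻¹) ^ (p ^ 2) = 1 := by
        have h5 : (⟨_, h3⟩ : V) ^ (Nat.card V) = 1 := pow_card_eq_one'
        rw [hV] at h5
        exact congrArg Subtype.val h5
      rw [h4, one_mul] at h2
      exact mul_inv_eq_iff_eq_mul.1 h2
    refine ⟨4, Subtype.ext ?_⟩
    have h5 : (⟨_, h1⟩ : V) ^ (Nat.card V) = 1 := pow_card_eq_one'
    rw [hV] at h5
    have h6 : (g ^ (p ^ 2)) ^ (p ^ 2) = 1 := congrArg Subtype.val h5
    rw [← pow_mul, ← pow_add] at h6
    exact h6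
  have hin : ∀ R : Sylow p G, Nat.card R = p ^ 3 → V ≤ R → z ∈ ZZ V R → (R : Subgroup G) ≤ K := by
    intro R hR hVR hzR q hq
    obtain ⟨hcard, hcen⟩ := card_ZZ hR hV hVR hC
    refine ⟨Subgroup.mem_centralizer_iff.1 hzR.2 q hq, fun v hv => ?_⟩
    have hzp : Subgroup.zpowers z = ZZ V R := by
      refine Subgroup.eq_of_le_of_card_ge (Subgroup.zpowers_le.2 hzR) ?_
      rw [hcard, Nat.card_zpowers]
      have h1 : orderOf z ∣ p := by
        rw [← hcard, ← Subgroup.orderOf_mk z hzR]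
        exact orderOf_dvd_natCard _
      rcases (Nat.dvd_prime hp.out).1 h1 with h2 | h2
      · exact absurd (orderOf_eq_one_iff.1 h2) hz1
      · rw [h2]
    rw [hzp, ← hcen]
    -- commutators of `R` are central
    have hcc : Nat.card (Subgroup.center R) = p := by
      refine Eq.trans ?_ hcard
      rw [← hcen]
      exact Nat.card_congr ((Subgroup.center R).equivMapOfInjective (R : Subgroup G).subtype
        (Subgroup.subtype_injective _)).toEquiv
    have hq2 : Nat.card (R ⧸ Subgroup.center R) = p ^ 2 := by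
      have h1 := Subgroup.card_eq_card_quotient_mul_card_subgroup (Subgroup.center R)
      rw [hR, hcc, pow_succ p 2] at h1
      exact (Nat.eq_of_mul_eq_mul_right hp.out.pos h1).symm
    have hab := (IsPGroup.isMulCommutative_of_card_eq_prime_sq hq2).is_comm.comm
    let q' : R := ⟨q, hq⟩
    let v' : R := ⟨v, hVR hv⟩
    have h3 : q' * v' * q'⁻¹ * v'⁻¹ ∈ Subgroup.center R := by
      rw [← QuotientGroup.eq_one_iff]
      have h4 := hab (q' : R ⧸ Subgroup.center R) v'
      show ((q' : R ⧸ Subgroup.center R) * v' * (q' : R ⧸ Subgroup.center R)⁻¹ *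
        (v' : R ⧸ Subgroup.center R)⁻¹) = 1
      rw [h4]
      group
    exact ⟨_, h3, rfl⟩
  have e1 : K = Q := Q.is_maximal' hKp (hin Q hQ hVQ hz)
  have e2 : K = Q' := Q'.is_maximal' hKp (hin Q' hQ' hVQ' hz')
  exact Sylow.ext (e1.symm.trans e2)

/-- At most `p + 1` Sylow subgroups contain `V`. -/
theorem card_above_le {P : Sylow p G} (hP : Nat.card P = p ^ 3) {V : Subgroup G}
    (hV : Nat.card V = p ^ 2) (hC : ∀ g : G, (∀ v ∈ V, g * v = v * g) → g ∈ V) :
    Nat.card {Q : Sylow p G // V ≤ Q} ≤ p + 1 := by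
  classical
  have hcQ : ∀ Q : Sylow p G, Nat.card Q = p ^ 3 := fun Q => by
    rw [← hP]; exact Nat.card_congr (Sylow.equiv Q P).toEquiv
  let X := {Q : Sylow p G // V ≤ Q}
  have hX : Fintype X := Fintype.ofFinite X
  have h1 : Nat.card (Σ Q : X, {z : ZZ V (Q : Sylow p G) // z ≠ 1}) = Nat.card X * (p - 1) := by
    rw [Nat.card_sigma]
    have h2 : ∀ Q : X, Nat.card {z : ZZ V (Q : Sylow p G) // z ≠ 1} = p - 1 := by
      intro Q
      have h3 := (card_ZZ (hcQ Q.1) hV Q.2 hC).1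
      have hft : Fintype (ZZ V (Q : Sylow p G)) := Fintype.ofFinite _
      rw [Nat.card_eq_fintype_card, Fintype.card_subtype_compl, ← Nat.card_eq_fintype_card, h3]
      simp
    rw [Finset.sum_congr rfl (fun Q _ => h2 Q), Finset.sum_const, smul_eq_mul, Finset.card_univ,
      Nat.card_eq_fintype_card]
  have h4 : Nat.card {v : V // v ≠ 1} = p ^ 2 - 1 := by
    have hft : Fintype V := Fintype.ofFinite _
    rw [Nat.card_eq_fintype_card, Fintype.card_subtype_compl, ← Nat.card_eq_fintype_card, hV]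
    simp
  have h5 : Nat.card (Σ Q : X, {z : ZZ V (Q : Sylow p G) // z ≠ 1}) ≤ Nat.card {v : V // v ≠ 1} := by
    refine Nat.card_le_card_of_injective
      (fun s => ⟨⟨(s.2.1 : G), s.2.1.2.1⟩, fun h =>
        s.2.2 (Subtype.ext (congrArg (fun t : V => (t : G)) h))⟩) ?_
    rintro ⟨Q, z, hz⟩ ⟨Q', z', hz'⟩ h
    have h6 : (z : G) = z' := congrArg (fun t => ((t.1 : V) : G)) h
    have h7 : (Q : Sylow p G) = Q' := by
      refine eq_of_mem_ZZ (hcQ Q.1) hV Q.2 Q'.2 hC (z := (z : G)) ?_ z.2 ?_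
      · intro h8; exact hz (Subtype.ext h8)
      · rw [h6]; exact z'.2
    have h8 : Q = Q' := Subtype.ext h7
    subst h8
    have h9 : z = z' := Subtype.ext h6
    subst h9
    rfl
  rw [h1, h4] at h5
  have h6 : p ^ 2 - 1 = (p + 1) * (p - 1) := by
    have := Nat.sq_sub_sq p 1
    simpa using this
  rw [h6] at h5
  exact Nat.le_of_mul_le_mul_right h5 (Nat.sub_pos_of_lt hp.out.one_lt)

theorem card_above_eq {P : Sylow p G} (hP : Nat.card P = p ^ 3) {V : Subgroup G}
    (hV : Nat.card V = p ^ 2) (hVP : V ≤ P) (hC : ∀ g : G, (∀ v ∈ V, g * v = v * g) → g ∈ V)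
    (hex : ∃ Q : Sylow p G, V ≤ Q ∧ Q ≠ P) :
    Nat.card {Q : Sylow p G // V ≤ Q ∧ Q ≠ P} = p := by
  classical
  have h1 := dvd_card_above hP hV hVP
  have h2 := card_above_le hP hV hC
  have h3 : Nat.card {Q : Sylow p G // V ≤ Q ∧ Q ≠ P} < Nat.card {Q : Sylow p G // V ≤ Q} := by
    have hf1 : Fintype {Q : Sylow p G // V ≤ Q} := Fintype.ofFinite _
    have hf2 : Fintype {Q : Sylow p G // V ≤ Q ∧ Q ≠ P} := Fintype.ofFinite _
    rw [Nat.card_eq_fintype_card, Nat.card_eq_fintype_card]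
    refine Fintype.card_lt_of_injective_of_notMem (fun Q => ⟨Q.1, Q.2.1⟩) (b := ⟨P, hVP⟩) ?_ ?_
    · intro a b hab
      exact Subtype.ext (congrArg (fun t : {Q : Sylow p G // V ≤ Q} => t.1) hab)
    · rintro ⟨Q, hQ⟩
      exact Q.2.2 (congrArg Subtype.val hQ)
  have h4 : 0 < Nat.card {Q : Sylow p G // V ≤ Q ∧ Q ≠ P} := by
    obtain ⟨Q, hQ⟩ := hex
    exact Nat.card_pos_iff.2 ⟨⟨⟨Q, hQ⟩⟩, inferInstance⟩
  obtain ⟨c, hc⟩ := h1
  have h5 : c ≤ 1 := by
    have h6 : p * c < p + 1 := by rw [← hc]; omega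
    by_contra h7
    have h8 : p * 2 ≤ p * c := Nat.mul_le_mul_left p (by omega)
    have := hp.out.two_le
    omega
  have h6 : c ≠ 0 := by
    rintro rfl
    rw [mul_zero] at hc
    omega
  have h7 : c = 1 := by omega
  rw [hc, h7, mul_one]

/-- **The number of Sylow subgroups of order `p^3` modulo `p^2`.** -/
theorem card_sylow_modEq (P : Sylow p G) (hP : Nat.card P = p ^ 3)
    (hC : ∀ V : Subgroup G, V ≤ P → Nat.card V = p ^ 2 →
      ∀ g : G, (∀ v ∈ V, g * v = v * g) → g ∈ V) :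
    Nat.card (Sylow p G) ≡ 1 + p * Nat.card {V : Subgroup G // (V ≤ P ∧ Nat.card V = p ^ 2) ∧
      ∃ Q : Sylow p G, V ≤ Q ∧ Q ≠ P} [MOD p ^ 2] := by
  classical
  have hcQ : ∀ Q : Sylow p G, Nat.card Q = p ^ 3 := fun Q => by
    rw [← hP]; exact Nat.card_congr (Sylow.equiv Q P).toEquiv
  have hfS : Fintype (Sylow p G) := Fintype.ofFinite _
  let M : Sylow p G → Prop := fun Q => ∃ V : Subgroup G, V ≤ P ∧ Nat.card V = p ^ 2 ∧ V ≤ Q
  -- those meeting `P` in order at most `p`
  have hB : p ^ 2 ∣ Nat.card {Q : Sylow p G // ¬ M Q} := by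
    refine dvd_card_of_orbit_pred (Γ := (P : Subgroup G)) _ (fun g Q hQ => ?_) (fun Q hQ => ?_)
    · rintro ⟨V, h1, h2, h3⟩
      apply hQ
      have h4 : (g • Q : Sylow p G) = (g : G) • Q := rfl
      rw [h4] at h3
      refine ⟨V, h1, h2, fun v hv => ?_⟩
      have h5 : (g : G) * v * (g : G)⁻¹ ∈ V := conj_mem hP h1 h2 g.2 hv
      have h6 : (g : G) * v * (g : G)⁻¹ ∈ MulAut.conj (g : G) • (Q : Subgroup G) := h3 h5
      rw [Subgroup.mem_pointwise_smul_iff_inv_smul_mem] at h6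
      simpa [MulAut.smul_def, mul_assoc] using h6
    · rw [stabilizer_eq]
      have h1 := card_inf_mul (P : Subgroup G) Q
      have h2 : Nat.card ↥((P : Subgroup G) ⊓ Q) ∣ p ^ 3 := by
        rw [← hP]; exact Subgroup.card_dvd_of_le inf_le_left
      obtain ⟨i, hi, h3⟩ := (Nat.dvd_prime_pow hp.out).1 h2
      have h4 : i ≤ 1 := by
        by_contra h5
        apply hQ
        have hpp : IsPGroup p ↥((P : Subgroup G) ⊓ Q) := IsPGroup.of_card h3
        obtain ⟨K, hK, -⟩ := Sylow.exists_subgroup_card_pow_prime_le p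
          (G := ↥((P : Subgroup G) ⊓ Q)) (n := 0) (m := 2)
          (by rw [h3]; exact pow_dvd_pow p (by omega)) ⊥ (by simp) (by norm_num)
        refine ⟨K.map ((P : Subgroup G) ⊓ Q).subtype, ?_, ?_, ?_⟩
        · rintro _ ⟨y, -, rfl⟩
          exact y.2.1
        · rw [← hK]
          exact (Nat.card_congr (K.equivMapOfInjective _ (Subgroup.subtype_injective _)).toEquiv).symm
        · rintro _ ⟨y, -, rfl⟩
          exact y.2.2
      rw [h3, hP] at h1
      have h5 : p ^ 3 = p ^ i * p ^ (3 - i) := by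
        rw [← pow_add]; congr 1; omega
      rw [h5] at h1
      have h6 : ((Q : Subgroup G).subgroupOf P).index = p ^ (3 - i) :=
        Nat.eq_of_mul_eq_mul_left (pow_pos hp.out.pos i) h1
      rw [h6]
      exact pow_dvd_pow p (by omega)
  -- those meeting `P` in order `p^2`
  let VV := {V : Subgroup G // (V ≤ P ∧ Nat.card V = p ^ 2) ∧ ∃ Q : Sylow p G, V ≤ Q ∧ Q ≠ P}
  have hfV : Fintype VV := Fintype.ofFinite _
  have hA : Nat.card {Q : Sylow p G // M Q ∧ Q ≠ P} = p * Nat.card VV := by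
    have h1 : Nat.card (Σ V : VV, {Q : Sylow p G // (V : Subgroup G) ≤ Q ∧ Q ≠ P}) =
        p * Nat.card VV := by
      have h2 : ∀ V : VV, Nat.card {Q : Sylow p G // (V : Subgroup G) ≤ Q ∧ Q ≠ P} = p :=
        fun V => card_above_eq hP V.2.1.2 V.2.1.1 (hC V V.2.1.1 V.2.1.2) V.2.2
      rw [Nat.card_sigma, Finset.sum_congr rfl (fun V _ => h2 V), Finset.sum_const, smul_eq_mul,
        Finset.card_univ, Nat.card_eq_fintype_card, mul_comm]
    rw [← h1]
    symm
    refine Nat.card_congr (Equiv.ofBijective (fun s => ⟨s.2.1,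
      ⟨s.1.1, s.1.2.1.1, s.1.2.1.2, s.2.2.1⟩, s.2.2.2⟩) ⟨?_, ?_⟩)
    · rintro ⟨V, Q, hQ⟩ ⟨V', Q', hQ'⟩ h
      have h2 : Q = Q' := congrArg Subtype.val h
      subst h2
      have h3 : V = V' := by
        apply Subtype.ext
        rw [← inf_eq hP hQ.2 V.2.1.2 V.2.1.1 hQ.1, ← inf_eq hP hQ'.2 V'.2.1.2 V'.2.1.1 hQ'.1]
      subst h3
      rfl
    · rintro ⟨Q, ⟨V, h2, h3, h4⟩, h5⟩
      exact ⟨⟨⟨V, ⟨h2, h3⟩, Q, h4, h5⟩, Q, h4, h5⟩, rfl⟩
  -- `P` itself
  obtain ⟨V₀, hV₀, hV₀P⟩ : ∃ V : Subgroup G, Nat.card V = p ^ 2 ∧ V ≤ P := by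
    obtain ⟨K, hK, -⟩ := Sylow.exists_subgroup_card_pow_prime_le p
      (G := P) (n := 0) (m := 2) (by rw [hP]; exact pow_dvd_pow p (by norm_num)) ⊥ (by simp)
      (by norm_num)
    refine ⟨K.map (P : Subgroup G).subtype, ?_, ?_⟩
    · rw [← hK]
      exact (Nat.card_congr (K.equivMapOfInjective _ (Subgroup.subtype_injective _)).toEquiv).symm
    · rintro _ ⟨y, -, rfl⟩
      exact y.2
  have hMP : M P := ⟨V₀, hV₀P, hV₀, hV₀P⟩
  have hsplit : Nat.card (Sylow p G) = Nat.card {Q : Sylow p G // ¬ M Q} +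
      (Nat.card {Q : Sylow p G // M Q ∧ Q ≠ P} + 1) := by
    have e1 : Nat.card (Sylow p G) = Nat.card {Q : Sylow p G // M Q} +
        Nat.card {Q : Sylow p G // ¬ M Q} := by
      rw [← Nat.card_sum]
      exact Nat.card_congr (Equiv.sumCompl M).symm
    have e2 : Nat.card {Q : Sylow p G // M Q} = Nat.card {Q : Sylow p G // M Q ∧ Q ≠ P} + 1 := by
      simp only [Nat.card_eq_fintype_card, Fintype.card_subtype]
      rw [← Finset.card_insert_of_notMem (a := P)
        (s := Finset.univ.filter fun Q : Sylow p G => M Q ∧ Q ≠ P) (by simp)]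
      congr 1
      ext Q
      simp only [Finset.mem_filter, Finset.mem_univ, true_and, Finset.mem_insert]
      constructor
      · intro h
        by_cases h1 : Q = P
        · exact Or.inl h1
        · exact Or.inr ⟨h, h1⟩
      · rintro (h | h)
        · rw [h]; exact hMP
        · exact h.1
    rw [e1, e2, add_comm]
  rw [hsplit, hA]
  have e3 := (Nat.modEq_zero_iff_dvd.2 hB).add_right (p * Nat.card VV + 1)
  rw [zero_add] at e3
  rw [add_comm 1]
  exact e3

end Cfsg.Agent.H775.CountCube
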