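import Cfsg.Agent.H275.GLTwoFix

set_option autoImplicit false
set_option linter.unusedSectionVars false

/-!
# Configurations of lines in the plane over `F_p`

`VConf W L`: `W` is a subgroup of `GL₂(p)` of order prime to `p`, `L` a `W`-invariant set of nonzero vectors closed
under nonzero scalars such that for every `v` in `L` and every unit `a` some element of `W` has eigenvalue `a⁻¹` on
`v` and determinant `a`.
-/

namespace Cfsg.Agent.H775.Cube

open Matrix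

variable {p : ℕ} [hp : Fact p.Prime]

/-- A configuration. -/
structure VConf (W : Subgroup (GL (Fin 2) (ZMod p))) (L : Set (Fin 2 → ZMod p)) : Prop where
  pprime : ¬ p ∣ Nat.card W
  ne : ∀ v ∈ L, v ≠ 0
  smul : ∀ v ∈ L, ∀ c : ZMod p, c ≠ 0 → c • v ∈ L
  inv : ∀ w ∈ W, ∀ v ∈ L, (w : Matrix (Fin 2) (Fin 2) (ZMod p)) *ᵥ v ∈ L
  diag : ∀ v ∈ L, ∀ a : (ZMod p)ˣ, ∃ w ∈ W,
    (w : Matrix (Fin 2) (Fin 2) (ZMod p)) *ᵥ v = ((a⁻¹ : (ZMod p)ˣ) : ZMod p) • v ∧
      (w : Matrix (Fin 2) (Fin 2) (ZMod p)).det = a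

/-- The image of a set of vectors. -/
def img (g : GL (Fin 2) (ZMod p)) (L : Set (Fin 2 → ZMod p)) : Set (Fin 2 → ZMod p) :=
  (fun v => (g : Matrix (Fin 2) (Fin 2) (ZMod p)) *ᵥ v) '' L

theorem inv_mulVec (g : GL (Fin 2) (ZMod p)) (v : Fin 2 → ZMod p) :
    ((g⁻¹ : GL (Fin 2) (ZMod p)) : Matrix (Fin 2) (Fin 2) (ZMod p)) *ᵥ
      ((g : Matrix (Fin 2) (Fin 2) (ZMod p)) *ᵥ v) = v := by
  rw [Matrix.mulVec_mulVec, ← Units.val_mul, inv_mul_cancel, Units.val_one, Matrix.one_mulVec]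

theorem mulVec_inv (g : GL (Fin 2) (ZMod p)) (v : Fin 2 → ZMod p) :
    (g : Matrix (Fin 2) (Fin 2) (ZMod p)) *ᵥ
      (((g⁻¹ : GL (Fin 2) (ZMod p)) : Matrix (Fin 2) (Fin 2) (ZMod p)) *ᵥ v) = v := by
  rw [Matrix.mulVec_mulVec, ← Units.val_mul, mul_inv_cancel, Units.val_one, Matrix.one_mulVec]

theorem mem_img {g : GL (Fin 2) (ZMod p)} {L : Set (Fin 2 → ZMod p)} {v : Fin 2 → ZMod p} :
    v ∈ img g L ↔ ((g⁻¹ : GL (Fin 2) (ZMod p)) : Matrix (Fin 2) (Fin 2) (ZMod p)) *ᵥ v ∈ L := by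
  constructor
  · rintro ⟨u, hu, rfl⟩
    change ((g⁻¹ : GL (Fin 2) (ZMod p)) : Matrix (Fin 2) (Fin 2) (ZMod p)) *ᵥ
      ((g : Matrix (Fin 2) (Fin 2) (ZMod p)) *ᵥ u) ∈ L
    rwa [inv_mulVec]
  · intro h
    exact ⟨_, h, mulVec_inv g v⟩

theorem img_mul (g h : GL (Fin 2) (ZMod p)) (L : Set (Fin 2 → ZMod p)) : img (g * h) L = img g (img h L) := by
  ext v
  rw [mem_img, mem_img, mem_img, Matrix.mulVec_mulVec, _root_.mul_inv_rev, Units.val_mul]

theorem img_one (L : Set (Fin 2 → ZMod p)) : img 1 L = L := by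
  ext v
  rw [mem_img, inv_one, Units.val_one, Matrix.one_mulVec]

/-- Configurations can be transported. -/
theorem VConf.conj {W : Subgroup (GL (Fin 2) (ZMod p))} {L : Set (Fin 2 → ZMod p)} (h : VConf W L)
    (g : GL (Fin 2) (ZMod p)) : VConf (W.map (MulAut.conj g).toMonoidHom) (img g L) := by
  refine ⟨?_, ?_, ?_, ?_, ?_⟩
  · intro hd
    exact h.pprime (hd.trans (Subgroup.card_map_dvd _ _))
  · rintro v hv rfl
    rw [mem_img, Matrix.mulVec_zero] at hv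
    exact h.ne _ hv rfl
  · intro v hv c hc
    rw [mem_img] at hv ⊢
    rw [Matrix.mulVec_smul]
    exact h.smul _ hv c hc
  · rintro _ ⟨w, hw, rfl⟩ v hv
    rw [mem_img] at hv ⊢
    have h1 := h.inv w hw _ hv
    have h2 : ((g⁻¹ : GL (Fin 2) (ZMod p)) : Matrix (Fin 2) (Fin 2) (ZMod p)) *ᵥ
        ((((MulAut.conj g).toMonoidHom w : GL (Fin 2) (ZMod p)) : Matrix (Fin 2) (Fin 2) (ZMod p)) *ᵥ v) =
        (w : Matrix (Fin 2) (Fin 2) (ZMod p)) *ᵥ
          (((g⁻¹ : GL (Fin 2) (ZMod p)) : Matrix (Fin 2) (Fin 2) (ZMod p)) *ᵥ v) := by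
      rw [Matrix.mulVec_mulVec, Matrix.mulVec_mulVec, ← Units.val_mul, ← Units.val_mul]
      congr 2
      change g⁻¹ * (g * w * g⁻¹) = w * g⁻¹
      group
    rwa [h2]
  · intro v hv a
    rw [mem_img] at hv
    obtain ⟨w, hw, h1, h2⟩ := h.diag _ hv a
    refine ⟨(MulAut.conj g).toMonoidHom w, ⟨w, hw, rfl⟩, ?_, ?_⟩
    · have h3 : (((MulAut.conj g).toMonoidHom w : GL (Fin 2) (ZMod p)) : Matrix (Fin 2) (Fin 2) (ZMod p)) *ᵥ v =
          (g : Matrix (Fin 2) (Fin 2) (ZMod p)) *ᵥ ((w : Matrix (Fin 2) (Fin 2) (ZMod p)) *ᵥ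
            (((g⁻¹ : GL (Fin 2) (ZMod p)) : Matrix (Fin 2) (Fin 2) (ZMod p)) *ᵥ v)) := by
        rw [Matrix.mulVec_mulVec, Matrix.mulVec_mulVec, ← Units.val_mul, ← Units.val_mul]
        rfl
      rw [h3, h1, Matrix.mulVec_smul, mulVec_inv]
    · have h3 : (((MulAut.conj g).toMonoidHom w : GL (Fin 2) (ZMod p)) : Matrix (Fin 2) (Fin 2) (ZMod p)) =
          (g : Matrix (Fin 2) (Fin 2) (ZMod p)) * (w : Matrix (Fin 2) (Fin 2) (ZMod p)) *
            ((g⁻¹ : GL (Fin 2) (ZMod p)) : Matrix (Fin 2) (Fin 2) (ZMod p)) := by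
        rw [← Units.val_mul, ← Units.val_mul]
        rfl
      rw [h3, Matrix.det_mul, Matrix.det_mul, h2, mul_right_comm, ← Matrix.det_mul, ← Units.val_mul, mul_inv_cancel,
        Units.val_one, Matrix.det_one, one_mul]

variable {W : Subgroup (GL (Fin 2) (ZMod p))} {L : Set (Fin 2 → ZMod p)}

/-- Elements of order prime to `p` with a double eigenvalue are scalar. -/
theorem scalar_of_disc (hp2 : p ≠ 2) (hW : ¬ p ∣ Nat.card W) {w : GL (Fin 2) (ZMod p)} (hw : w ∈ W)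
    (hd : ((w : Matrix (Fin 2) (Fin 2) (ZMod p)) 0 0 + (w : Matrix (Fin 2) (Fin 2) (ZMod p)) 1 1) ^ 2 =
      4 * (w : Matrix (Fin 2) (Fin 2) (ZMod p)).det) :
    (w : Matrix (Fin 2) (Fin 2) (ZMod p)) 0 1 = 0 ∧ (w : Matrix (Fin 2) (Fin 2) (ZMod p)) 1 0 = 0 ∧
      (w : Matrix (Fin 2) (Fin 2) (ZMod p)) 0 0 = (w : Matrix (Fin 2) (Fin 2) (ZMod p)) 1 1 := by
  set M : Matrix (Fin 2) (Fin 2) (ZMod p) := (w : Matrix (Fin 2) (Fin 2) (ZMod p)) with hM
  have h2 : (2 : ZMod p) ≠ 0 := by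
    intro h
    have h3 : ((2 : ℕ) : ZMod p) = 0 := by exact_mod_cast h
    rw [ZMod.natCast_eq_zero_iff] at h3
    have h4 := Nat.le_of_dvd (by norm_num) h3
    have h5 := hp.out.two_le
    omega
  have hdet : M.det ≠ 0 := by
    intro h
    have h3 : IsUnit M.det := by
      rw [← Matrix.isUnit_iff_isUnit_det]
      exact ⟨w, rfl⟩
    rw [h] at h3
    exact not_isUnit_zero h3
  rw [Matrix.det_fin_two] at hd hdet
  set al : ZMod p := (M 0 0 + M 1 1) / 2 with hal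
  have hal2 : 2 * al = M 0 0 + M 1 1 := by rw [hal]; field_simp
  have hal0 : al ≠ 0 := by
    intro h
    rw [h, mul_zero] at hal2
    rw [← hal2] at hd
    apply hdet
    have h4 : (4 : ZMod p) ≠ 0 := by
      have : (4 : ZMod p) = 2 * 2 := by norm_num
      rw [this]
      exact mul_ne_zero h2 h2
    have h5 : (4 : ZMod p) * (M 0 0 * M 1 1 - M 0 1 * M 1 0) = 0 := by rw [← hd]; ring
    exact (mul_eq_zero.1 h5).resolve_left h4
  have hpow : M ^ Nat.card W = 1 := by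
    have h3 : (⟨w, hw⟩ : W) ^ Nat.card W = 1 := pow_card_eq_one'
    have h4 : w ^ Nat.card W = 1 := congrArg Subtype.val h3
    have h5 := congrArg (fun g : GL (Fin 2) (ZMod p) => (g : Matrix (Fin 2) (Fin 2) (ZMod p))) h4
    simpa using h5
  have hsq : (M - al • (1 : Matrix (Fin 2) (Fin 2) (ZMod p))) * (M - al • (1 : Matrix (Fin 2) (Fin 2) (ZMod p))) = 0 := by
    have h4 : (4 : ZMod p) ≠ 0 := by
      have : (4 : ZMod p) = 2 * 2 := by norm_num
      rw [this]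
      exact mul_ne_zero h2 h2
    have h5 : M 0 0 = 2 * al - M 1 1 := by rw [hal2]; ring
    have h6 : M 0 1 * M 1 0 = - (M 1 1 - al) ^ 2 := by
      have h7 : (4 : ZMod p) * (M 0 1 * M 1 0 + (M 1 1 - al) ^ 2) = 0 := by
        rw [h5] at hd
        linear_combination hd
      have h8 := (mul_eq_zero.1 h7).resolve_left h4
      linear_combination h8
    have h7 : M 1 0 * M 0 1 = - (M 1 1 - al) ^ 2 := by rw [mul_comm]; exact h6
    ext i j
    fin_cases i <;> fin_cases j <;>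
      simp [Matrix.mul_apply, Fin.sum_univ_two] <;> try rw [h5]
    · linear_combination h6
    · ring
    · ring
    · linear_combination h7
  have hsc := Cfsg.Agent.H275.GLTwoFix.scalar_of_discr_eq_zero (p := p) M (Nat.card W) hW hpow al hsq hal0
  rw [hsc]
  refine ⟨by simp, by simp, by simp⟩

end Cfsg.Agent.H775.Cube
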