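import Cfsg.Agent.H775.CubeNorm

set_option autoImplicit false
set_option linter.unusedSectionVars false

/-!
# Finite checks for `p = 3, 5, 13`
-/

namespace Cfsg.Agent.H775.Cube

open Matrix

section Tuple

variable {p : ℕ}

/-- `2 × 2` matrices as tuples. -/
abbrev T4 (p : ℕ) := ZMod p × ZMod p × ZMod p × ZMod p

/-- The matrix of a tuple. -/
def toM (t : T4 p) : Matrix (Fin 2) (Fin 2) (ZMod p) := !![t.1, t.2.1; t.2.2.1, t.2.2.2]

/-- The product of tuples. -/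
def tmul (s t : T4 p) : T4 p :=
  (s.1 * t.1 + s.2.1 * t.2.2.1, s.1 * t.2.1 + s.2.1 * t.2.2.2,
    s.2.2.1 * t.1 + s.2.2.2 * t.2.2.1, s.2.2.1 * t.2.1 + s.2.2.2 * t.2.2.2)

theorem toM_tmul (s t : T4 p) : toM (tmul s t) = toM s * toM t := by
  unfold toM tmul
  rw [Matrix.mul_fin_two]

/-- The diagonal matrices. -/
def tV (c : ZMod p) : T4 p := (1, 0, 0, c)

/-- The matrices with eigenvectors `(1,1)` and `(s,t)`. -/
def tU (s t c : ZMod p) : T4 p := (t - c * s, s * (c - 1), t * (1 - c), c * t - s)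

/-- The words. -/
def word (s t : ZMod p) : List (ZMod p × ZMod p) → T4 p
  | [] => (1, 0, 0, 1)
  | x :: l => tmul (tmul (tV (x.1 * x.1 * x.1)) (tU s t (x.2 * x.2 * x.2))) (word s t l)

/-- A nonscalar matrix with a double eigenvalue. -/
def Bad (t : T4 p) : Prop :=
  (t.1 + t.2.2.2) * (t.1 + t.2.2.2) = 4 * (t.1 * t.2.2.2 - t.2.1 * t.2.2.1) ∧
    ¬ (t.2.1 = 0 ∧ t.2.2.1 = 0 ∧ t.1 = t.2.2.2)

instance (t : T4 p) : Decidable (Bad t) := by unfold Bad; infer_instance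

variable [hp : Fact p.Prime] {W : Subgroup (GL (Fin 2) (ZMod p))}

theorem not_bad (hp2 : p ≠ 2) (hW : ¬ p ∣ Nat.card W) {t : T4 p} (h : PM W (toM t)) : ¬ Bad t := by
  rintro ⟨h1, h2⟩
  apply h2
  exact h.disc hp2 hW (by
    change (t.1 + t.2.2.2) ^ 2 = 4 * (t.1 * t.2.2.2 - t.2.1 * t.2.2.1)
    rw [sq]; exact h1)

theorem PM.one : PM W (toM ((1, 0, 0, 1) : T4 p)) := by
  refine ⟨1, W.one_mem, 1, one_ne_zero, ?_⟩
  rw [one_smul, Units.val_one]
  unfold toM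
  rw [Matrix.one_fin_two]

theorem pm_word {s t : ZMod p} (hV : ∀ a : ZMod p, a ≠ 0 → PM W (toM (tV (a * a * a))))
    (hU : ∀ a : ZMod p, a ≠ 0 → PM W (toM (tU s t (a * a * a)))) :
    ∀ l : List (ZMod p × ZMod p), (∀ x ∈ l, x.1 ≠ 0 ∧ x.2 ≠ 0) → PM W (toM (word s t l)) := by
  intro l
  induction l with
  | nil => intro _; exact PM.one
  | cons x l ih =>
    intro hl
    unfold word
    rw [toM_tmul, toM_tmul]
    exact ((hV _ (hl x (by simp)).1).mul (hU _ (hl x (by simp)).2)).mul (ih (fun y hy => hl y (by simp [hy])))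

end Tuple

/-- The words for `p = 13`. -/
def wit13 (y : ZMod 13) : List (ZMod 13 × ZMod 13) :=
  if y = 0 ∨ y = 2 then [(2, 2)]
  else if y = 7 then [(2, 7)]
  else if y = 4 ∨ y = 10 then [(2, 2), (7, 7)]
  else if y = 5 ∨ y = 6 ∨ y = 8 ∨ y = 11 then [(2, 2), (2, 7)]
  else if y = 3 then [(2, 2), (4, 4), (2, 7)]
  else if y = 9 then [(2, 2), (2, 4), (4, 7)]
  else []

/-- The words for `p = 5`. -/
def wit5 (y : ZMod 5) : List (ZMod 5 × ZMod 5) :=
  if y = 0 ∨ y = 2 then [(2, 2)] else [(2, 3)]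

theorem fin13 : ∀ y : ZMod 13, y ≠ 1 → y ≠ -1 → Bad (word 1 y (wit13 y)) := by decide +kernel

theorem fin13' : Bad (word (0 : ZMod 13) 1 [(2, 7)]) := by decide +kernel

theorem fin5 : ∀ y : ZMod 5, y ≠ 1 → y ≠ -1 → Bad (word 1 y (wit5 y)) := by decide +kernel

theorem fin5' : Bad (word (0 : ZMod 5) 1 [(2, 3)]) := by decide +kernel

theorem fin3 : ∀ y : ZMod 3, y ≠ 1 → y ≠ -1 → Bad (word 1 y [(2, 2)]) := by decide +kernel

theorem fin3' : Bad (word (0 : ZMod 3) 1 [(2, 2)]) := by decide +kernel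

theorem wit13_ne : ∀ y : ZMod 13, ∀ x ∈ wit13 y, x.1 ≠ 0 ∧ x.2 ≠ 0 := by
  intro y
  unfold wit13
  split_ifs <;> decide +kernel

theorem wit5_ne : ∀ y : ZMod 5, ∀ x ∈ wit5 y, x.1 ≠ 0 ∧ x.2 ≠ 0 := by decide +kernel

theorem ne3 : ∀ x ∈ ([(2, 2)] : List (ZMod 3 × ZMod 3)), x.1 ≠ 0 ∧ x.2 ≠ 0 := by decide +kernel

theorem ne5 : ∀ x ∈ ([(2, 3)] : List (ZMod 5 × ZMod 5)), x.1 ≠ 0 ∧ x.2 ≠ 0 := by decide +kernel

theorem ne13 : ∀ x ∈ ([(2, 7)] : List (ZMod 13 × ZMod 13)), x.1 ≠ 0 ∧ x.2 ≠ 0 := by decide +kernel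

section Harm

variable {p : ℕ} [hp : Fact p.Prime] {W : Subgroup (GL (Fin 2) (ZMod p))}

theorem tU_smul (c s t d : ZMod p) : toM (tU (c * s) (c * t) d) = c • toM (tU s t d) := by
  unfold toM tU
  ext i j
  fin_cases i <;> fin_cases j <;> simp <;> ring

theorem harm (hp' : p = 3 ∨ p = 5 ∨ p = 13) (hW : ¬ p ∣ Nat.card W) {s t : ZMod p} (hst : s ≠ t)
    (hV : ∀ a : ZMod p, a ≠ 0 → PM W (toM (tV (a * a * a))))
    (hU : ∀ a : ZMod p, a ≠ 0 → PM W (toM (tU s t (a * a * a)))) : t = -s := by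
  have hp2 : p ≠ 2 := by rcases hp' with h | h | h <;> omega
  by_cases hs : s = 0
  · -- the second eigenvector is the second axis
    exfalso
    subst hs
    have ht : t ≠ 0 := fun h => hst h.symm
    have hU' : ∀ a : ZMod p, a ≠ 0 → PM W (toM (tU 0 1 (a * a * a))) := by
      intro a ha
      have h1 := (hU a ha).smul (inv_ne_zero ht)
      rw [← tU_smul, mul_zero, inv_mul_cancel₀ ht] at h1
      exact h1
    rcases hp' with rfl | rfl | rfl
    · exact not_bad hp2 hW (pm_word hV hU' _ ne3) fin3'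
    · exact not_bad hp2 hW (pm_word hV hU' _ ne5) fin5'
    · exact not_bad hp2 hW (pm_word hV hU' _ ne13) fin13'
  · have hU' : ∀ a : ZMod p, a ≠ 0 → PM W (toM (tU 1 (s⁻¹ * t) (a * a * a))) := by
      intro a ha
      have h1 := (hU a ha).smul (inv_ne_zero hs)
      rw [← tU_smul, inv_mul_cancel₀ hs] at h1
      exact h1
    have hy1 : s⁻¹ * t ≠ 1 := by
      intro h
      apply hst
      field_simp at h
      exact h.symm
    have hy2 : s⁻¹ * t = -1 := by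
      by_contra hcon
      rcases hp' with rfl | rfl | rfl
      · exact not_bad hp2 hW (pm_word hV hU' _ ne3) (fin3 _ hy1 hcon)
      · exact not_bad hp2 hW (pm_word hV hU' _ (wit5_ne _)) (fin5 _ hy1 hcon)
      · exact not_bad hp2 hW (pm_word hV hU' _ (wit13_ne _)) (fin13 _ hy1 hcon)
    field_simp at hy2
    exact hy2

end Harm

end Cfsg.Agent.H775.Cube
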