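import Cfsg.Agent.H775.CubeStd

set_option autoImplicit false
set_option linter.unusedSectionVars false

/-!
# Configurations with three lines: uniqueness
-/

namespace Cfsg.Agent.H775.Cube

open Matrix

variable {p : ℕ} [hp : Fact p.Prime]
variable {W : Subgroup (GL (Fin 2) (ZMod p))} {L : Set (Fin 2 → ZMod p)}

/-- The reflection swapping the axes. -/
theorem Std.swap (hp' : p = 3 ∨ p = 5 ∨ p = 13) (h : Std W L) (h1 : ![1, 1] ∈ L) :
    ∃ w ∈ W, (w : Matrix (Fin 2) (Fin 2) (ZMod p)) = !![0, -1; -1, 0] := by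
  have hp2 : p ≠ 2 := by rcases hp' with h | h | h <;> omega
  have h2 := two_ne hp2
  obtain ⟨w, hw, h3, h4⟩ := h.diag _ h1 (-1)
  have hm1 : (((-1 : (ZMod p)ˣ)⁻¹ : (ZMod p)ˣ) : ZMod p) = -1 := by
    rw [inv_neg, inv_one]; simp
  rw [hm1] at h3
  obtain ⟨d, h5, h6⟩ := h.partner_one hp' h1 hw h3
  have hd : d = 1 := by
    rw [h4] at h6
    simp at h6
    exact h6.symm
  subst hd
  rw [one_smul] at h5
  have e0 := congrFun h3 0
  have e1 := congrFun h3 1
  have e2 := congrFun h5 0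
  have e3 := congrFun h5 1
  rw [mulVec_zero_apply] at e0 e2
  rw [mulVec_one_apply] at e1 e3
  simp only [Matrix.cons_val_zero, Matrix.cons_val_one, mul_one, Pi.smul_apply, smul_eq_mul] at e0 e1 e2 e3
  refine ⟨w, hw, ?_⟩
  have f0 : (w : Matrix (Fin 2) (Fin 2) (ZMod p)) 0 0 = 0 := by
    have : 2 * (w : Matrix (Fin 2) (Fin 2) (ZMod p)) 0 0 = 0 := by linear_combination e0 + e2
    exact (mul_eq_zero.1 this).resolve_left h2
  have f2 : (w : Matrix (Fin 2) (Fin 2) (ZMod p)) 1 1 = 0 := by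
    have : 2 * (w : Matrix (Fin 2) (Fin 2) (ZMod p)) 1 1 = 0 := by linear_combination e1 - e3
    exact (mul_eq_zero.1 this).resolve_left h2
  ext i j
  fin_cases i <;> fin_cases j
  · exact f0
  · change (w : Matrix (Fin 2) (Fin 2) (ZMod p)) 0 1 = -1
    linear_combination e0 - f0
  · change (w : Matrix (Fin 2) (Fin 2) (ZMod p)) 1 0 = -1
    linear_combination e1 - f2
  · exact f2

theorem four_cube {z : ZMod p} (hz : z ^ 4 = 1) : (z ^ 3) ^ 3 = z := by
  calc (z ^ 3) ^ 3 = z * (z ^ 4) ^ 2 := by ring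
    _ = z := by rw [hz]; ring

/-- The vectors of `L` off the axes. -/
theorem Std.four (hp' : p = 3 ∨ p = 5 ∨ p = 13) (h : Std W L) (h1 : ![1, 1] ∈ L) {v : Fin 2 → ZMod p} (hv : v ∈ L)
    (h0 : v 0 ≠ 0) (h1' : v 1 ≠ 0) : v 0 ^ 4 = v 1 ^ 4 := by
  have hp2 : p ≠ 2 := by rcases hp' with h | h | h <;> omega
  have h2 := two_ne hp2
  by_cases hsq : v 0 ^ 2 = v 1 ^ 2
  · calc v 0 ^ 4 = (v 0 ^ 2) ^ 2 := by ring
      _ = (v 1 ^ 2) ^ 2 := by rw [hsq]
      _ = v 1 ^ 4 := by ring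
  -- change of coordinates
  have hdet : (!![1, 1; 1, -1] : Matrix (Fin 2) (Fin 2) (ZMod p)).det ≠ 0 := by
    rw [Matrix.det_fin_two_of]
    have : (1 : ZMod p) * -1 - 1 * 1 = -2 := by ring
    rw [this]
    exact neg_ne_zero.2 h2
  set g : GL (Fin 2) (ZMod p) := Matrix.GeneralLinearGroup.mkOfDetNeZero !![1, 1; 1, -1] hdet with hg'
  have hg : (g : Matrix (Fin 2) (Fin 2) (ZMod p)) = !![1, 1; 1, -1] := rfl
  have hstd : Std (W.map (MulAut.conj g).toMonoidHom) (img g L) := by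
    refine ⟨h.conj g, ⟨(2 : ZMod p)⁻¹ • ![1, 1], h.smul _ h1 _ (inv_ne_zero h2), ?_⟩, ?_⟩
    · change (g : Matrix (Fin 2) (Fin 2) (ZMod p)) *ᵥ _ = _
      rw [hg]
      apply vec_ext
      · rw [mulVec_zero_apply]
        simp
        field_simp
        ring
      · rw [mulVec_one_apply]; simp
    · obtain ⟨w, hw, hwm⟩ := h.swap hp' h1
      refine ⟨(MulAut.conj g).toMonoidHom w, ⟨w, hw, rfl⟩, ?_⟩
      have hc : (MulAut.conj g).toMonoidHom w * g = g * w := by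
        change g * w * g⁻¹ * g = g * w
        group
      have hc2 : (((MulAut.conj g).toMonoidHom w : GL (Fin 2) (ZMod p)) : Matrix (Fin 2) (Fin 2) (ZMod p)) *
          (g : Matrix (Fin 2) (Fin 2) (ZMod p)) = !![-1, 0; 0, 1] * (g : Matrix (Fin 2) (Fin 2) (ZMod p)) := by
        rw [← Units.val_mul, hc, Units.val_mul, hg, hwm, Matrix.mul_fin_two, Matrix.mul_fin_two]
        simp
      have hc3 := congrArg (fun M : Matrix (Fin 2) (Fin 2) (ZMod p) =>
        M * ((g⁻¹ : GL (Fin 2) (ZMod p)) : Matrix (Fin 2) (Fin 2) (ZMod p))) hc2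
      simp only [Matrix.mul_assoc, ← Units.val_mul, mul_inv_cancel, Units.val_one, mul_one] at hc3
      rw [mul_inv_cancel_right] at hc3
      exact hc3
  -- the partner computed in the two coordinate systems
  obtain ⟨r, hr, h3, h4⟩ := h.diag _ hv (-1)
  have hm1 : (((-1 : (ZMod p)ˣ)⁻¹ : (ZMod p)ˣ) : ZMod p) = -1 := by
    rw [inv_neg, inv_one]; simp
  rw [hm1] at h3
  obtain ⟨d, h5, h6⟩ := h.partner_gen hp' hv h0 h1' hr h3
  have hd : d = 1 := by
    rw [h4] at h6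
    simp at h6
    exact h6.symm
  subst hd
  rw [one_smul] at h5
  have hs0 : v 0 + v 1 ≠ 0 := by
    intro h
    apply hsq
    linear_combination (v 0 - v 1) * h
  have hs1 : v 0 - v 1 ≠ 0 := by
    intro h
    apply hsq
    linear_combination (v 0 + v 1) * h
  have hgv : (g : Matrix (Fin 2) (Fin 2) (ZMod p)) *ᵥ v = ![v 0 + v 1, v 0 - v 1] := by
    rw [hg]
    apply vec_ext
    · rw [mulVec_zero_apply]; simp
    · rw [mulVec_one_apply]; simp; ring
  have hmem : ![v 0 + v 1, v 0 - v 1] ∈ img g L := ⟨v, hv, hgv⟩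
  have hgr : (((MulAut.conj g).toMonoidHom r : GL (Fin 2) (ZMod p)) : Matrix (Fin 2) (Fin 2) (ZMod p)) *ᵥ
      ![v 0 + v 1, v 0 - v 1] = (-1 : ZMod p) • ![v 0 + v 1, v 0 - v 1] := by
    rw [conj_mulVec hgv, h3, Matrix.mulVec_smul, hgv]
  obtain ⟨e, h7, h8⟩ := hstd.partner_gen hp' hmem hs0 hs1 ⟨r, hr, rfl⟩ hgr
  simp only [Matrix.cons_val_zero, Matrix.cons_val_one] at h7
  rw [det_conj, h4] at h8
  have he : e = 1 := by
    simp at h8
    exact h8.symm
  subst he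
  rw [one_smul] at h7
  have hgu : (g : Matrix (Fin 2) (Fin 2) (ZMod p)) *ᵥ ![v 1, v 0] = ![v 0 + v 1, -(v 0 - v 1)] := by
    rw [hg]
    apply vec_ext
    · rw [mulVec_zero_apply]; simp; ring
    · rw [mulVec_one_apply]; simp; ring
  rw [conj_mulVec hgu] at h7
  have h9 : (r : Matrix (Fin 2) (Fin 2) (ZMod p)) *ᵥ ![v 1, v 0] = ![v 1, v 0] := by
    have h10 := congrArg (fun t => ((g⁻¹ : GL (Fin 2) (ZMod p)) : Matrix (Fin 2) (Fin 2) (ZMod p)) *ᵥ t) h7
    change ((g⁻¹ : GL (Fin 2) (ZMod p)) : Matrix (Fin 2) (Fin 2) (ZMod p)) *ᵥ _ =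
      ((g⁻¹ : GL (Fin 2) (ZMod p)) : Matrix (Fin 2) (Fin 2) (ZMod p)) *ᵥ _ at h10
    rw [inv_mulVec] at h10
    rw [h10, ← hgu, inv_mulVec]
  -- the two fixed vectors are proportional
  have e0 := congrFun h3 0
  have e1 := congrFun h3 1
  have e2 := congrFun h5 0
  have e3 := congrFun h5 1
  have e4 := congrFun h9 0
  have e5 := congrFun h9 1
  rw [mulVec_zero_apply] at e0 e2 e4
  rw [mulVec_one_apply] at e1 e3 e5
  simp only [Matrix.cons_val_zero, Matrix.cons_val_one, Pi.smul_apply, smul_eq_mul] at e0 e1 e2 e3 e4 e5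
  set R : Matrix (Fin 2) (Fin 2) (ZMod p) := (r : Matrix (Fin 2) (Fin 2) (ZMod p)) with hR
  have k1 : R 0 0 = 0 := by
    have : 2 * v 0 * R 0 0 = 0 := by linear_combination e0 + e2
    exact (mul_eq_zero.1 this).resolve_left (mul_ne_zero h2 h0)
  have k2 : R 0 1 * v 1 = - v 0 := by
    have : R 0 0 * v 0 + R 0 1 * v 1 = -v 0 := by linear_combination e0
    rw [k1] at this
    linear_combination this
  have k3 : R 0 1 * v 0 = v 1 := by
    rw [k1] at e4
    linear_combination e4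
  have k4 : v 0 ^ 2 = - v 1 ^ 2 := by linear_combination v 0 * k2 - v 1 * k3
  calc v 0 ^ 4 = (v 0 ^ 2) ^ 2 := by ring
    _ = (- v 1 ^ 2) ^ 2 := by rw [k4]
    _ = v 1 ^ 4 := by ring

/-- The standard set of vectors. -/
def L0 (p : ℕ) : Set (Fin 2 → ZMod p) := {v | v ≠ 0 ∧ v 0 * v 1 * (v 0 ^ 4 - v 1 ^ 4) = 0}

theorem Std.eq_L0 (hp' : p = 3 ∨ p = 5 ∨ p = 13) (h : Std W L) (h1 : ![1, 1] ∈ L) : L = L0 p := by
  have hp2 : p ≠ 2 := by rcases hp' with h | h | h <;> omega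
  ext v
  constructor
  · intro hv
    refine ⟨h.ne v hv, ?_⟩
    by_cases h0 : v 0 = 0
    · rw [h0]; ring
    by_cases h1' : v 1 = 0
    · rw [h1']; ring
    rw [h.four hp' h1 hv h0 h1']; ring
  · rintro ⟨hv, h2⟩
    by_cases h1' : v 1 = 0
    · have h0 : v 0 ≠ 0 := by
        intro h0
        exact hv (vec_ext h0 h1')
      have : v = v 0 • ![1, 0] := vec_ext (by simp) (by simp [h1'])
      rw [this]
      exact h.smul _ h.e1 _ h0
    by_cases h0 : v 0 = 0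
    · obtain ⟨w, hw, hwm⟩ := h.swap hp' h1
      have h3 := h.inv w hw _ h.e1
      have h4 : (w : Matrix (Fin 2) (Fin 2) (ZMod p)) *ᵥ ![1, 0] = ![0, -1] := by
        rw [hwm]
        apply vec_ext
        · rw [mulVec_zero_apply]; simp
        · rw [mulVec_one_apply]; simp
      rw [h4] at h3
      have : v = (- v 1) • ![0, -1] := vec_ext (by simp [h0]) (by simp)
      rw [this]
      exact h.smul _ h3 _ (neg_ne_zero.2 h1')
    · have h3 : v 0 ^ 4 = v 1 ^ 4 := by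
        have := (mul_eq_zero.1 h2).resolve_left (mul_ne_zero h0 h1')
        linear_combination this
      set z := v 1 / v 0 with hz
      have hz4 : z ^ 4 = 1 := by
        rw [hz, div_pow, ← h3, div_self (pow_ne_zero _ h0)]
      have hz0 : z ≠ 0 := div_ne_zero h1' h0
      have ha : z ^ 3 ≠ 0 := pow_ne_zero _ hz0
      obtain ⟨w, hw, hwm⟩ := h.diag_mem hp2 ha
      have h4 := h.inv w hw _ h1
      have h5 : (w : Matrix (Fin 2) (Fin 2) (ZMod p)) *ᵥ ![1, 1] = ![(z ^ 3)⁻¹, (z ^ 3) ^ 2] := by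
        rw [hwm]
        apply vec_ext
        · rw [mulVec_zero_apply]; simp
        · rw [mulVec_one_apply]; simp
      rw [h5] at h4
      have h6 := four_cube hz4
      have : v = (v 0 * z ^ 3) • ![(z ^ 3)⁻¹, (z ^ 3) ^ 2] := by
        apply vec_ext
        · change v 0 = v 0 * z ^ 3 * (z ^ 3)⁻¹
          field_simp
        · change v 1 = v 0 * z ^ 3 * (z ^ 3) ^ 2
          have h7 : v 0 * z ^ 3 * (z ^ 3) ^ 2 = v 0 * (z ^ 3) ^ 3 := by ring
          rw [h7, h6, hz]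
          field_simp
      rw [this]
      exact h.smul _ h4 _ (mul_ne_zero h0 ha)

/-- The generators of the standard group. -/
def gens (p : ℕ) : Set (GL (Fin 2) (ZMod p)) :=
  {w | ∃ a : ZMod p, a ≠ 0 ∧ ((w : Matrix (Fin 2) (Fin 2) (ZMod p)) = !![a⁻¹, 0; 0, a ^ 2] ∨
    ((w : Matrix (Fin 2) (Fin 2) (ZMod p)) *ᵥ ![1, 1] = a⁻¹ • ![1, 1] ∧
      (w : Matrix (Fin 2) (Fin 2) (ZMod p)) *ᵥ ![1, -1] = a ^ 2 • ![1, -1]))}

/-- The standard group. -/
def W1 (p : ℕ) [Fact p.Prime] : Subgroup (GL (Fin 2) (ZMod p)) := Subgroup.closure (gens p)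

theorem gl_ext (hp2 : p ≠ 2) {w w' : GL (Fin 2) (ZMod p)}
    (h1 : (w : Matrix (Fin 2) (Fin 2) (ZMod p)) *ᵥ ![1, 1] = (w' : Matrix (Fin 2) (Fin 2) (ZMod p)) *ᵥ ![1, 1])
    (h2 : (w : Matrix (Fin 2) (Fin 2) (ZMod p)) *ᵥ ![1, -1] = (w' : Matrix (Fin 2) (Fin 2) (ZMod p)) *ᵥ ![1, -1]) :
    w = w' := by
  have h2' := two_ne hp2
  have e0 := congrFun h1 0
  have e1 := congrFun h1 1
  have e2 := congrFun h2 0
  have e3 := congrFun h2 1
  rw [mulVec_zero_apply, mulVec_zero_apply] at e0 e2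
  rw [mulVec_one_apply, mulVec_one_apply] at e1 e3
  simp only [Matrix.cons_val_zero, Matrix.cons_val_one, mul_one, mul_neg] at e0 e1 e2 e3
  apply Units.ext
  ext i j
  fin_cases i <;> fin_cases j
  · change (w : Matrix (Fin 2) (Fin 2) (ZMod p)) 0 0 = (w' : Matrix (Fin 2) (Fin 2) (ZMod p)) 0 0
    apply mul_left_cancel₀ h2'
    linear_combination e0 + e2
  · change (w : Matrix (Fin 2) (Fin 2) (ZMod p)) 0 1 = (w' : Matrix (Fin 2) (Fin 2) (ZMod p)) 0 1
    apply mul_left_cancel₀ h2'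
    linear_combination e0 - e2
  · change (w : Matrix (Fin 2) (Fin 2) (ZMod p)) 1 0 = (w' : Matrix (Fin 2) (Fin 2) (ZMod p)) 1 0
    apply mul_left_cancel₀ h2'
    linear_combination e1 + e3
  · change (w : Matrix (Fin 2) (Fin 2) (ZMod p)) 1 1 = (w' : Matrix (Fin 2) (Fin 2) (ZMod p)) 1 1
    apply mul_left_cancel₀ h2'
    linear_combination e1 - e3

theorem Std.W1_le (hp' : p = 3 ∨ p = 5 ∨ p = 13) (h : Std W L) (h1 : ![1, 1] ∈ L) : W1 p ≤ W := by
  have hp2 : p ≠ 2 := by rcases hp' with h | h | h <;> omega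
  rw [W1, Subgroup.closure_le]
  rintro w ⟨a, ha, hw | ⟨hw1, hw2⟩⟩
  · obtain ⟨w', hw', h2⟩ := h.diag_mem hp2 ha
    have : w = w' := Units.ext (by rw [hw, h2])
    rw [this]; exact hw'
  · obtain ⟨w', hw', h2, h3⟩ := h.diag _ h1 (Units.mk0 a ha)
    have h4 : (((Units.mk0 a ha)⁻¹ : (ZMod p)ˣ) : ZMod p) = a⁻¹ := by
      rw [Units.val_inv_eq_inv_val, Units.val_mk0]
    rw [h4] at h2
    rw [Units.val_mk0] at h3
    obtain ⟨d, h5, h6⟩ := h.partner_one hp' h1 hw' h2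
    have hd : d = a ^ 2 := by
      rw [h3] at h6
      field_simp at h6
      exact h6.symm
    subst hd
    have : w = w' := gl_ext hp2 (by rw [hw1, h2]) (by rw [hw2, h5])
    rw [this]; exact hw'

theorem mem_W1_V {w : GL (Fin 2) (ZMod p)} {a : ZMod p} (ha : a ≠ 0)
    (hw : (w : Matrix (Fin 2) (Fin 2) (ZMod p)) = !![a⁻¹, 0; 0, a ^ 2]) : w ∈ W1 p :=
  Subgroup.subset_closure ⟨a, ha, Or.inl hw⟩

theorem exists_swap : ∃ s : GL (Fin 2) (ZMod p), s ∈ W1 p ∧
    (s : Matrix (Fin 2) (Fin 2) (ZMod p)) = !![0, -1; -1, 0] := by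
  refine ⟨Matrix.GeneralLinearGroup.mkOfDetNeZero !![0, -1; -1, 0]
    (by rw [Matrix.det_fin_two_of]; simp), Subgroup.subset_closure ⟨-1, by simp, Or.inr ⟨?_, ?_⟩⟩, rfl⟩
  · change !![0, -1; -1, 0] *ᵥ ![1, 1] = _
    apply vec_ext
    · rw [mulVec_zero_apply]; simp [inv_neg]
    · rw [mulVec_one_apply]; simp [inv_neg]
  · change !![0, -1; -1, 0] *ᵥ ![1, -1] = _
    apply vec_ext
    · rw [mulVec_zero_apply]; simp
    · rw [mulVec_one_apply]; simp

theorem mem_W1_V' {w : GL (Fin 2) (ZMod p)} {b : ZMod p} (hb : b ≠ 0)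
    (hw : (w : Matrix (Fin 2) (Fin 2) (ZMod p)) = !![b ^ 2, 0; 0, b⁻¹]) : w ∈ W1 p := by
  obtain ⟨s, hs, hsm⟩ := exists_swap (p := p)
  obtain ⟨v, hv⟩ := exists_diag (inv_ne_zero hb) (pow_ne_zero 2 hb)
  have hvm := mem_W1_V hb hv
  have h1 : w * s = s * v := by
    apply Units.ext
    rw [Units.val_mul, Units.val_mul, hw, hsm, hv, Matrix.mul_fin_two, Matrix.mul_fin_two]
    simp
  have h2 : w = s * v * s⁻¹ := by rw [← h1, mul_inv_cancel_right]
  rw [h2]
  exact mul_mem (mul_mem hs hvm) (inv_mem hs)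

theorem mem_W1_diag {w : GL (Fin 2) (ZMod p)} {x a : ZMod p} (hx : x ≠ 0) (ha : a ≠ 0)
    (hw : (w : Matrix (Fin 2) (Fin 2) (ZMod p)) = !![x, 0; 0, x * a ^ 3]) : w ∈ W1 p := by
  have hA : x * a ^ 2 ≠ 0 := mul_ne_zero hx (pow_ne_zero 2 ha)
  have hB : x * a ≠ 0 := mul_ne_zero hx ha
  obtain ⟨u, hu⟩ := exists_diag (inv_ne_zero hA) (pow_ne_zero 2 hA)
  obtain ⟨v, hv⟩ := exists_diag (pow_ne_zero 2 hB) (inv_ne_zero hB)
  have h1 : w = u * v := by
    apply Units.ext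
    rw [Units.val_mul, hw, hu, hv, Matrix.mul_fin_two]
    ext i j
    fin_cases i <;> fin_cases j <;> simp
    · field_simp
    · field_simp
  rw [h1]
  exact mul_mem (mem_W1_V hA hu) (mem_W1_V' hB hv)

theorem mem_W1_of_diag {w : GL (Fin 2) (ZMod p)} {x y : ZMod p} (hx : x ≠ 0) (hy : y ≠ 0) (hxy : x ^ 4 = y ^ 4)
    (hw : (w : Matrix (Fin 2) (Fin 2) (ZMod p)) = !![x, 0; 0, y]) : w ∈ W1 p := by
  have hz : (y / x) ^ 4 = 1 := by rw [div_pow, hxy, div_self (pow_ne_zero _ hy)]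
  have hz0 : y / x ≠ 0 := div_ne_zero hy hx
  apply mem_W1_diag (a := (y / x) ^ 3) hx (pow_ne_zero _ hz0)
  rw [four_cube hz, hw]
  congr 3
  field_simp

/-- If `-1` is a square then the standard group is transitive on the lines of the standard set. -/
theorem exists_mem_W1 (hp2 : p ≠ 2) {i : ZMod p} (hi : i ^ 2 = -1) {v : Fin 2 → ZMod p} (hv : v ∈ L0 p) :
    ∃ g ∈ W1 p, ∃ c : ZMod p, c ≠ 0 ∧ (g : Matrix (Fin 2) (Fin 2) (ZMod p)) *ᵥ ![1, 0] = c • v := by
  have h2 := two_ne hp2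
  obtain ⟨hv0, hv1⟩ := hv
  by_cases h1' : v 1 = 0
  · have h0 : v 0 ≠ 0 := fun h0 => hv0 (vec_ext h0 h1')
    refine ⟨1, one_mem _, (v 0)⁻¹, inv_ne_zero h0, ?_⟩
    rw [Units.val_one, Matrix.one_mulVec]
    apply vec_ext
    · simp [h0]
    · simp [h1']
  by_cases h0 : v 0 = 0
  · obtain ⟨s, hs, hsm⟩ := exists_swap (p := p)
    refine ⟨s, hs, -(v 1)⁻¹, neg_ne_zero.2 (inv_ne_zero h1'), ?_⟩
    rw [hsm]
    apply vec_ext
    · rw [mulVec_zero_apply]; simp [h0]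
    · rw [mulVec_one_apply]; simp [h1']
  · have h3 : v 0 ^ 4 = v 1 ^ 4 := by
      have := (mul_eq_zero.1 hv1).resolve_left (mul_ne_zero h0 h1')
      linear_combination this
    have hi0 : i ≠ 0 := by
      rintro rfl
      simp at hi
    -- the element of order four at `(1,1)`
    have hdet : (!![(i - 1) / 2, (i + 1) / 2; (i + 1) / 2, (i - 1) / 2] : Matrix (Fin 2) (Fin 2) (ZMod p)).det ≠ 0 := by
      rw [Matrix.det_fin_two_of]
      have : (i - 1) / 2 * ((i - 1) / 2) - (i + 1) / 2 * ((i + 1) / 2) = - i := by field_simp; ring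
      rw [this]
      exact neg_ne_zero.2 hi0
    set u : GL (Fin 2) (ZMod p) := Matrix.GeneralLinearGroup.mkOfDetNeZero _ hdet with hu'
    have hu : (u : Matrix (Fin 2) (Fin 2) (ZMod p)) = !![(i - 1) / 2, (i + 1) / 2; (i + 1) / 2, (i - 1) / 2] := rfl
    have hinv : (-i)⁻¹ = i := by
      rw [inv_eq_iff_eq_inv]
      apply eq_inv_of_mul_eq_one_left
      linear_combination -hi
    have huW : u ∈ W1 p := by
      apply Subgroup.subset_closure
      refine ⟨-i, neg_ne_zero.2 hi0, Or.inr ⟨?_, ?_⟩⟩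
      · rw [hu, hinv]
        apply vec_ext
        · rw [mulVec_zero_apply]; simp; field_simp; ring
        · rw [mulVec_one_apply]; simp; field_simp; ring
      · rw [hu]
        have hi' : (-i) ^ 2 = -1 := by rw [neg_sq]; exact hi
        rw [hi']
        apply vec_ext
        · rw [mulVec_zero_apply]; simp; field_simp; ring
        · rw [mulVec_one_apply]; simp; field_simp; ring
    set z := v 1 / v 0 with hz
    have hz4 : z ^ 4 = 1 := by rw [hz, div_pow, ← h3, div_self (pow_ne_zero _ h0)]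
    have hz0 : z ≠ 0 := div_ne_zero h1' h0
    obtain ⟨t, ht⟩ := exists_diag (one_ne_zero (α := ZMod p)) (mul_ne_zero hz0 hi0)
    have htW : t ∈ W1 p := by
      apply mem_W1_of_diag one_ne_zero (mul_ne_zero hz0 hi0) ?_ ht
      rw [one_pow, mul_pow, hz4, one_mul]
      have : i ^ 4 = (i ^ 2) ^ 2 := by ring
      rw [this, hi]; ring
    have him : i - 1 ≠ 0 := by
      intro h
      have h4 : i = 1 := sub_eq_zero.1 h
      rw [h4, one_pow] at hi
      apply h2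
      linear_combination hi
    refine ⟨t * u, mul_mem htW huW, (i - 1) / 2 / v 0, div_ne_zero (div_ne_zero him h2) h0, ?_⟩
    rw [Units.val_mul, ht, hu, Matrix.mul_fin_two]
    apply vec_ext
    · rw [mulVec_zero_apply]; simp; field_simp
    · rw [mulVec_one_apply]; simp
      rw [hz]
      field_simp
      linear_combination hi

theorem sq5 : (2 : ZMod 5) ^ 2 = -1 := by decide +kernel

theorem sq13 : (5 : ZMod 13) ^ 2 = -1 := by decide +kernel

theorem Std.eq_W1 (hp' : p = 5 ∨ p = 13) (h : Std W L) (h1 : ![1, 1] ∈ L) : W = W1 p := by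
  have hp3 : p = 3 ∨ p = 5 ∨ p = 13 := Or.inr hp'
  have hp2 : p ≠ 2 := by rcases hp' with h | h <;> omega
  have hi : ∃ i : ZMod p, i ^ 2 = -1 := by
    rcases hp' with rfl | rfl
    · exact ⟨2, sq5⟩
    · exact ⟨5, sq13⟩
  obtain ⟨i, hi⟩ := hi
  apply le_antisymm _ (h.W1_le hp3 h1)
  intro w hw
  have hL := h.eq_L0 hp3 h1
  have h2 := h.inv w hw _ h.e1
  rw [hL] at h2
  obtain ⟨g, hg, c, hc, h3⟩ := exists_mem_W1 hp2 hi h2
  have hgW : g ∈ W := h.W1_le hp3 h1 hg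
  set w' : GL (Fin 2) (ZMod p) := g⁻¹ * w with hw'
  have hw'W : w' ∈ W := mul_mem (inv_mem hgW) hw
  have h4 : (w' : Matrix (Fin 2) (Fin 2) (ZMod p)) *ᵥ ![1, 0] = c⁻¹ • ![1, 0] := by
    rw [hw', Units.val_mul, ← Matrix.mulVec_mulVec]
    have h5 : (w : Matrix (Fin 2) (Fin 2) (ZMod p)) *ᵥ ![1, 0] =
        c⁻¹ • ((g : Matrix (Fin 2) (Fin 2) (ZMod p)) *ᵥ ![1, 0]) := by
      rw [h3, smul_smul, inv_mul_cancel₀ hc, one_smul]
    rw [h5, Matrix.mulVec_smul, inv_mulVec]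
  have h10 : (w' : Matrix (Fin 2) (Fin 2) (ZMod p)) 1 0 = 0 := by
    have := congrFun h4 1
    rw [mulVec_one_apply] at this
    simpa using this
  have h00 : (w' : Matrix (Fin 2) (Fin 2) (ZMod p)) 0 0 = c⁻¹ := by
    have := congrFun h4 0
    rw [mulVec_zero_apply] at this
    simpa using this
  obtain ⟨r, hr, hR⟩ := h.refl
  have h01 := diag_of_fix hp2 h.pprime hr hR hw'W h10
  have hdet : (w' : Matrix (Fin 2) (Fin 2) (ZMod p)).det ≠ 0 := by
    intro h
    have h3 : IsUnit (w' : Matrix (Fin 2) (Fin 2) (ZMod p)).det := by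
      rw [← Matrix.isUnit_iff_isUnit_det]
      exact ⟨w', rfl⟩
    rw [h] at h3
    exact not_isUnit_zero h3
  rw [Matrix.det_fin_two, h10, mul_zero, sub_zero] at hdet
  have hx := left_ne_zero_of_mul hdet
  have hy := right_ne_zero_of_mul hdet
  have h5 := h.inv w' hw'W _ h1
  have h6 : (w' : Matrix (Fin 2) (Fin 2) (ZMod p)) *ᵥ ![1, 1] =
      ![(w' : Matrix (Fin 2) (Fin 2) (ZMod p)) 0 0, (w' : Matrix (Fin 2) (Fin 2) (ZMod p)) 1 1] := by
    apply vec_ext
    · rw [mulVec_zero_apply, h01]; simp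
    · rw [mulVec_one_apply, h10]; simp
  rw [h6] at h5
  have h7 := h.four hp3 h1 h5 hx hy
  have h8 : w' ∈ W1 p := by
    apply mem_W1_of_diag hx hy h7
    ext i j
    fin_cases i <;> fin_cases j
    · rfl
    · exact h01
    · exact h10
    · rfl
  have h9 : w = g * w' := by rw [hw', mul_inv_cancel_left]
  rw [h9]
  exact mul_mem hg h8

end Cfsg.Agent.H775.Cube
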