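import Cfsg.Agent.H775.CubeBasic

set_option autoImplicit false
set_option linter.unusedSectionVars false

/-!
# Normalisation of configurations
-/

namespace Cfsg.Agent.H775.Cube

open Matrix

variable {p : ℕ} [hp : Fact p.Prime]
variable {W : Subgroup (GL (Fin 2) (ZMod p))} {L : Set (Fin 2 → ZMod p)}

/-- The matrix `M` is a scalar multiple of an element of `W`. -/
def PM (W : Subgroup (GL (Fin 2) (ZMod p))) (M : Matrix (Fin 2) (Fin 2) (ZMod p)) : Prop :=
  ∃ w ∈ W, ∃ k : ZMod p, k ≠ 0 ∧ (w : Matrix (Fin 2) (Fin 2) (ZMod p)) = k • M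

theorem PM.mul {M N : Matrix (Fin 2) (Fin 2) (ZMod p)} (hM : PM W M) (hN : PM W N) : PM W (M * N) := by
  obtain ⟨w, hw, k, hk, h1⟩ := hM
  obtain ⟨u, hu, l, hl, h2⟩ := hN
  refine ⟨w * u, W.mul_mem hw hu, k * l, mul_ne_zero hk hl, ?_⟩
  rw [Units.val_mul, h1, h2, Matrix.smul_mul, Matrix.mul_smul, smul_smul]

theorem PM.smul {M : Matrix (Fin 2) (Fin 2) (ZMod p)} (hM : PM W M) {c : ZMod p} (hc : c ≠ 0) : PM W (c • M) := by
  obtain ⟨w, hw, k, hk, h1⟩ := hM
  refine ⟨w, hw, k * c⁻¹, mul_ne_zero hk (inv_ne_zero hc), ?_⟩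
  rw [h1, smul_smul, mul_assoc, inv_mul_cancel₀ hc, mul_one]

theorem PM.disc (hp2 : p ≠ 2) (hW : ¬ p ∣ Nat.card W) {M : Matrix (Fin 2) (Fin 2) (ZMod p)} (hM : PM W M)
    (hd : (M 0 0 + M 1 1) ^ 2 = 4 * (M 0 0 * M 1 1 - M 0 1 * M 1 0)) : M 0 1 = 0 ∧ M 1 0 = 0 ∧ M 0 0 = M 1 1 := by
  obtain ⟨w, hw, k, hk, h1⟩ := hM
  have h2 := scalar_of_disc hp2 hW hw (by
    rw [Matrix.det_fin_two, h1]
    simp only [Matrix.smul_apply, smul_eq_mul]
    linear_combination k ^ 2 * hd)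
  rw [h1] at h2
  simp only [Matrix.smul_apply, smul_eq_mul] at h2
  obtain ⟨h3, h4, h5⟩ := h2
  exact ⟨(mul_eq_zero.1 h3).resolve_left hk, (mul_eq_zero.1 h4).resolve_left hk, mul_left_cancel₀ hk h5⟩

theorem two_ne (hp2 : p ≠ 2) : (2 : ZMod p) ≠ 0 := by
  intro h
  have h3 : ((2 : ℕ) : ZMod p) = 0 := by exact_mod_cast h
  rw [ZMod.natCast_eq_zero_iff] at h3
  have h4 := Nat.le_of_dvd (by norm_num) h3
  have h5 := hp.out.two_le
  omega

theorem ne_zero_iff {v : Fin 2 → ZMod p} : v ≠ 0 ↔ v 0 ≠ 0 ∨ v 1 ≠ 0 := by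
  constructor
  · intro hv
    by_contra hcon
    push Not at hcon
    apply hv
    ext i
    fin_cases i
    · exact hcon.1
    · exact hcon.2
  · rintro (h | h) rfl
    · exact h rfl
    · exact h rfl

theorem exists_smul {v u : Fin 2 → ZMod p} (hv : v ≠ 0) (h : v 0 * u 1 - v 1 * u 0 = 0) : ∃ c : ZMod p, u = c • v := by
  rcases ne_zero_iff.1 hv with h0 | h0
  · refine ⟨u 0 / v 0, ?_⟩
    ext i
    fin_cases i
    · change u 0 = u 0 / v 0 * v 0
      field_simp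
    · change u 1 = u 0 / v 0 * v 1
      field_simp
      linear_combination h
  · refine ⟨u 1 / v 1, ?_⟩
    ext i
    fin_cases i
    · change u 0 = u 1 / v 1 * v 0
      field_simp
      linear_combination -h
    · change u 1 = u 1 / v 1 * v 1
      field_simp

theorem det_smul (v : Fin 2 → ZMod p) (c : ZMod p) : v 0 * (c • v) 1 - v 1 * (c • v) 0 = 0 := by
  simp only [Pi.smul_apply, smul_eq_mul]; ring

theorem mulVec_zero_apply (M : Matrix (Fin 2) (Fin 2) (ZMod p)) (v : Fin 2 → ZMod p) :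
    (M *ᵥ v) 0 = M 0 0 * v 0 + M 0 1 * v 1 := by
  simp [Matrix.mulVec, dotProduct, Fin.sum_univ_two]

theorem mulVec_one_apply (M : Matrix (Fin 2) (Fin 2) (ZMod p)) (v : Fin 2 → ZMod p) :
    (M *ᵥ v) 1 = M 1 0 * v 0 + M 1 1 * v 1 := by
  simp [Matrix.mulVec, dotProduct, Fin.sum_univ_two]

theorem eq_of_mulVec {M : Matrix (Fin 2) (Fin 2) (ZMod p)} {a b c d : ZMod p} (h1 : M *ᵥ ![1, 0] = ![a, c])
    (h2 : M *ᵥ ![0, 1] = ![b, d]) : M = !![a, b; c, d] := by
  have e1 := congrFun h1 0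
  have e2 := congrFun h1 1
  have e3 := congrFun h2 0
  have e4 := congrFun h2 1
  rw [mulVec_zero_apply] at e1 e3
  rw [mulVec_one_apply] at e2 e4
  simp only [Matrix.cons_val_zero, Matrix.cons_val_one, mul_one, mul_zero, add_zero, zero_add] at e1 e2 e3 e4
  ext i j
  fin_cases i <;> fin_cases j
  · exact e1
  · exact e3
  · exact e2
  · exact e4

/-- The change of coordinates with prescribed images. -/
theorem exists_gl {v u : Fin 2 → ZMod p} (h : v 0 * u 1 - v 1 * u 0 ≠ 0) :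
    ∃ g : GL (Fin 2) (ZMod p), (g : Matrix (Fin 2) (Fin 2) (ZMod p)) *ᵥ v = ![1, 0] ∧
      (g : Matrix (Fin 2) (Fin 2) (ZMod p)) *ᵥ u = ![0, 1] := by
  set d := v 0 * u 1 - v 1 * u 0 with hd
  have hdet : (!![u 1 / d, - (u 0 / d); - (v 1 / d), v 0 / d] : Matrix (Fin 2) (Fin 2) (ZMod p)).det ≠ 0 := by
    rw [Matrix.det_fin_two_of]
    have : u 1 / d * (v 0 / d) - -(u 0 / d) * -(v 1 / d) = 1 / d := by
      field_simp
      rw [hd]; ring
    rw [this]
    exact one_div_ne_zero h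
  refine ⟨Matrix.GeneralLinearGroup.mkOfDetNeZero _ hdet, ?_, ?_⟩
  · change !![u 1 / d, - (u 0 / d); - (v 1 / d), v 0 / d] *ᵥ v = ![1, 0]
    ext i
    fin_cases i
    · change (!![u 1 / d, - (u 0 / d); - (v 1 / d), v 0 / d] *ᵥ v) 0 = 1
      rw [mulVec_zero_apply]
      change u 1 / d * v 0 + - (u 0 / d) * v 1 = 1
      field_simp
      rw [hd]; ring
    · change (!![u 1 / d, - (u 0 / d); - (v 1 / d), v 0 / d] *ᵥ v) 1 = 0
      rw [mulVec_one_apply]
      change - (v 1 / d) * v 0 + v 0 / d * v 1 = 0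
      ring
  · change !![u 1 / d, - (u 0 / d); - (v 1 / d), v 0 / d] *ᵥ u = ![0, 1]
    ext i
    fin_cases i
    · change (!![u 1 / d, - (u 0 / d); - (v 1 / d), v 0 / d] *ᵥ u) 0 = 0
      rw [mulVec_zero_apply]
      change u 1 / d * u 0 + - (u 0 / d) * u 1 = 0
      ring
    · change (!![u 1 / d, - (u 0 / d); - (v 1 / d), v 0 / d] *ᵥ u) 1 = 1
      rw [mulVec_one_apply]
      change - (v 1 / d) * u 0 + v 0 / d * u 1 = 1
      field_simp
      rw [hd]; ring

/-- The conjugate of an element of `W` in terms of images of vectors. -/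
theorem conj_mulVec {g w : GL (Fin 2) (ZMod p)} {v v' : Fin 2 → ZMod p}
    (hv : (g : Matrix (Fin 2) (Fin 2) (ZMod p)) *ᵥ v = v') :
    (((MulAut.conj g).toMonoidHom w : GL (Fin 2) (ZMod p)) : Matrix (Fin 2) (Fin 2) (ZMod p)) *ᵥ v' =
      (g : Matrix (Fin 2) (Fin 2) (ZMod p)) *ᵥ ((w : Matrix (Fin 2) (Fin 2) (ZMod p)) *ᵥ v) := by
  subst hv
  rw [Matrix.mulVec_mulVec, Matrix.mulVec_mulVec, ← Units.val_mul, ← Units.val_mul]
  congr 2
  change g * w * g⁻¹ * g = g * w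
  group

/-- There is a change of coordinates sending `v` to the first basis vector, and some reflection to the diagonal
matrix `diag(-1,1)`. -/
theorem exists_norm (hp2 : p ≠ 2) (h : VConf W L) {v : Fin 2 → ZMod p} (hv : v ∈ L) :
    ∃ g : GL (Fin 2) (ZMod p), (g : Matrix (Fin 2) (Fin 2) (ZMod p)) *ᵥ v = ![1, 0] ∧
      ∃ r ∈ W.map (MulAut.conj g).toMonoidHom, (r : Matrix (Fin 2) (Fin 2) (ZMod p)) = !![-1, 0; 0, 1] := by
  have h2 := two_ne hp2
  obtain ⟨r, hr, hr1, hr2⟩ := h.diag v hv (-1)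
  have hm1 : (((-1 : (ZMod p)ˣ)⁻¹ : (ZMod p)ˣ) : ZMod p) = -1 := by
    rw [inv_neg, inv_one]; simp
  rw [hm1] at hr1
  set R : Matrix (Fin 2) (Fin 2) (ZMod p) := (r : Matrix (Fin 2) (Fin 2) (ZMod p)) with hR
  have hdet : R.det = -1 := by rw [hr2]; simp
  rw [Matrix.det_fin_two] at hdet
  have hv0 := h.ne v hv
  have e0 : R 0 0 * v 0 + R 0 1 * v 1 = - v 0 := by
    have := congrFun hr1 0
    rw [mulVec_zero_apply] at this
    simpa using this
  have e1 : R 1 0 * v 0 + R 1 1 * v 1 = - v 1 := by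
    have := congrFun hr1 1
    rw [mulVec_one_apply] at this
    simpa using this
  have hvne := ne_zero_iff.1 hv0
  have htr : R 0 0 + R 1 1 = 0 := by
    rcases hvne with h3 | h3
    · have h4 : v 0 * (R 0 0 + R 1 1) = 0 := by
        linear_combination (1 + R 1 1) * e0 - R 0 1 * e1 - v 0 * hdet
      exact (mul_eq_zero.1 h4).resolve_left h3
    · have h4 : v 1 * (R 0 0 + R 1 1) = 0 := by
        linear_combination (1 + R 0 0) * e1 - R 1 0 * e0 - v 1 * hdet
      exact (mul_eq_zero.1 h4).resolve_left h3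
  have key : ∀ x : Fin 2 → ZMod p, R *ᵥ (x + R *ᵥ x) = x + R *ᵥ x := by
    intro x
    ext i
    fin_cases i
    · change (R *ᵥ (x + R *ᵥ x)) 0 = (x + R *ᵥ x) 0
      rw [mulVec_zero_apply, Pi.add_apply, Pi.add_apply, mulVec_zero_apply, mulVec_one_apply]
      linear_combination (R 0 0 * x 0 + R 0 1 * x 1) * htr - x 0 * hdet
    · change (R *ᵥ (x + R *ᵥ x)) 1 = (x + R *ᵥ x) 1
      rw [mulVec_one_apply, Pi.add_apply, Pi.add_apply, mulVec_zero_apply, mulVec_one_apply]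
      linear_combination (R 1 0 * x 0 + R 1 1 * x 1) * htr - x 1 * hdet
  have hfix : ∀ u : Fin 2 → ZMod p, R *ᵥ u = u → v 0 * u 1 - v 1 * u 0 = 0 → u = 0 := by
    intro u hu h3
    obtain ⟨c, rfl⟩ := exists_smul hv0 h3
    rw [Matrix.mulVec_smul, hr1, smul_smul, mul_neg, mul_one, neg_smul] at hu
    have h4 : (2 : ZMod p) • (c • v) = 0 := by
      rw [two_smul]
      nth_rw 1 [← hu]
      rw [neg_add_cancel]
    exact (smul_eq_zero.1 h4).resolve_left h2
  have hex : ∃ x : Fin 2 → ZMod p, x + R *ᵥ x ≠ 0 := by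
    by_contra hcon
    push Not at hcon
    have f1 := hcon ![1, 0]
    have f2 := hcon ![0, 1]
    have f3 := congrFun f1 0
    have f4 := congrFun f1 1
    have f5 := congrFun f2 0
    have f6 := congrFun f2 1
    rw [Pi.add_apply, mulVec_zero_apply] at f3 f5
    rw [Pi.add_apply, mulVec_one_apply] at f4 f6
    simp only [Matrix.cons_val_zero, Matrix.cons_val_one, mul_one, mul_zero, add_zero, zero_add, Pi.zero_apply] at f3 f4 f5 f6
    apply h2
    linear_combination hdet - (R 1 1) * f3 + f4 * R 0 1 + f6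
  obtain ⟨x, hx⟩ := hex
  set u := x + R *ᵥ x with hu
  have hd : v 0 * u 1 - v 1 * u 0 ≠ 0 := fun h3 => hx (hfix u (key x) h3)
  obtain ⟨g, hg1, hg2⟩ := exists_gl hd
  refine ⟨g, hg1, (MulAut.conj g).toMonoidHom r, ⟨r, hr, rfl⟩, ?_⟩
  apply eq_of_mulVec
  · rw [conj_mulVec hg1, ← hR, hr1, Matrix.mulVec_smul, hg1]
    ext i
    fin_cases i <;> simp
  · rw [conj_mulVec hg2, ← hR, key x, ← hu, hg2]

/-- If `diag(-1,1)` is in `W` then the elements of `W` stabilising the first axis are diagonal. -/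
theorem diag_of_fix (hp2 : p ≠ 2) (hW : ¬ p ∣ Nat.card W) {r : GL (Fin 2) (ZMod p)} (hr : r ∈ W)
    (hR : (r : Matrix (Fin 2) (Fin 2) (ZMod p)) = !![-1, 0; 0, 1]) {w : GL (Fin 2) (ZMod p)} (hw : w ∈ W)
    (h0 : (w : Matrix (Fin 2) (Fin 2) (ZMod p)) 1 0 = 0) : (w : Matrix (Fin 2) (Fin 2) (ZMod p)) 0 1 = 0 := by
  have h2 := two_ne hp2
  set M : Matrix (Fin 2) (Fin 2) (ZMod p) := (w : Matrix (Fin 2) (Fin 2) (ZMod p)) with hM
  set s : GL (Fin 2) (ZMod p) := w * r * w⁻¹ * r⁻¹ with hs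
  have hsW : s ∈ W := W.mul_mem (W.mul_mem (W.mul_mem hw hr) (W.inv_mem hw)) (W.inv_mem hr)
  have h1 : s * (r * w) = w * r := by rw [hs]; group
  have h3 := congrArg (fun g : GL (Fin 2) (ZMod p) => (g : Matrix (Fin 2) (Fin 2) (ZMod p))) h1
  simp only [Units.val_mul] at h3
  rw [hR, ← hM] at h3
  set N : Matrix (Fin 2) (Fin 2) (ZMod p) := (s : Matrix (Fin 2) (Fin 2) (ZMod p)) with hN
  have hdet : M.det ≠ 0 := by
    intro h
    have h3 : IsUnit M.det := by
      rw [← Matrix.isUnit_iff_isUnit_det]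
      exact ⟨w, rfl⟩
    rw [h] at h3
    exact not_isUnit_zero h3
  rw [Matrix.det_fin_two, h0, mul_zero, sub_zero] at hdet
  have ha : M 0 0 ≠ 0 := left_ne_zero_of_mul hdet
  have hd : M 1 1 ≠ 0 := right_ne_zero_of_mul hdet
  have e00 := congrFun (congrFun h3 0) 0
  have e01 := congrFun (congrFun h3 0) 1
  have e10 := congrFun (congrFun h3 1) 0
  have e11 := congrFun (congrFun h3 1) 1
  simp only [Matrix.mul_apply, Fin.sum_univ_two, Matrix.of_apply, Matrix.cons_val', Matrix.cons_val_zero,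
    Matrix.cons_val_one, Matrix.cons_val_fin_one, h0] at e00 e01 e10 e11
  have f0 : N 0 0 = 1 := by
    have : M 0 0 * (N 0 0 - 1) = 0 := by linear_combination -e00
    exact sub_eq_zero.1 ((mul_eq_zero.1 this).resolve_left ha)
  have f1 : N 1 0 = 0 := by
    have : M 0 0 * N 1 0 = 0 := by linear_combination -e10
    exact (mul_eq_zero.1 this).resolve_left ha
  have f2 : N 1 1 = 1 := by
    have : M 1 1 * (N 1 1 - 1) = 0 := by
      rw [f1] at e11
      linear_combination e11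
    exact sub_eq_zero.1 ((mul_eq_zero.1 this).resolve_left hd)
  have h4 := scalar_of_disc hp2 hW hsW (by
    rw [Matrix.det_fin_two, ← hN, f0, f1, f2]; ring)
  rw [← hN] at h4
  rw [f0, h4.1] at e01
  have : 2 * M 0 1 = 0 := by linear_combination -e01
  exact (mul_eq_zero.1 this).resolve_left h2

/-- The second fixed line of the stabiliser of a line of `L`. -/
theorem partner (hp2 : p ≠ 2) (h : VConf W L) {v : Fin 2 → ZMod p} (hv : v ∈ L) :
    ∃ u : Fin 2 → ZMod p, v 0 * u 1 - v 1 * u 0 ≠ 0 ∧ ∀ w ∈ W, ∀ c : ZMod p,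
      (w : Matrix (Fin 2) (Fin 2) (ZMod p)) *ᵥ v = c • v →
        ∃ d : ZMod p, (w : Matrix (Fin 2) (Fin 2) (ZMod p)) *ᵥ u = d • u ∧
          (w : Matrix (Fin 2) (Fin 2) (ZMod p)).det = c * d := by
  obtain ⟨g, hg, r, hr, hR⟩ := exists_norm hp2 h hv
  have h' := h.conj g
  set u : Fin 2 → ZMod p := ((g⁻¹ : GL (Fin 2) (ZMod p)) : Matrix (Fin 2) (Fin 2) (ZMod p)) *ᵥ ![0, 1] with hu
  have hgu : (g : Matrix (Fin 2) (Fin 2) (ZMod p)) *ᵥ u = ![0, 1] := mulVec_inv g _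
  refine ⟨u, ?_, ?_⟩
  · intro h3
    obtain ⟨c, hc⟩ := exists_smul (h.ne v hv) h3
    rw [hc, Matrix.mulVec_smul, hg] at hgu
    have := congrFun hgu 1
    simp at this
  · intro w hw c hc
    set w' := (MulAut.conj g).toMonoidHom w with hw'
    have hw'W : w' ∈ W.map (MulAut.conj g).toMonoidHom := ⟨w, hw, rfl⟩
    have h1 : (w' : Matrix (Fin 2) (Fin 2) (ZMod p)) *ᵥ ![1, 0] = ![c, 0] := by
      rw [hw', conj_mulVec hg, hc, Matrix.mulVec_smul, hg]
      ext i
      fin_cases i <;> simp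
    have h10 : (w' : Matrix (Fin 2) (Fin 2) (ZMod p)) 1 0 = 0 := by
      have := congrFun h1 1
      rw [mulVec_one_apply] at this
      simpa using this
    have h00 : (w' : Matrix (Fin 2) (Fin 2) (ZMod p)) 0 0 = c := by
      have := congrFun h1 0
      rw [mulVec_zero_apply] at this
      simpa using this
    have h01 := diag_of_fix hp2 h'.pprime hr hR hw'W h10
    have hdet : (w' : Matrix (Fin 2) (Fin 2) (ZMod p)).det = (w : Matrix (Fin 2) (Fin 2) (ZMod p)).det := by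
      have h3 : (w' : Matrix (Fin 2) (Fin 2) (ZMod p)) =
          (g : Matrix (Fin 2) (Fin 2) (ZMod p)) * (w : Matrix (Fin 2) (Fin 2) (ZMod p)) *
            ((g⁻¹ : GL (Fin 2) (ZMod p)) : Matrix (Fin 2) (Fin 2) (ZMod p)) := by
        rw [← Units.val_mul, ← Units.val_mul]
        rfl
      rw [h3, Matrix.det_mul, Matrix.det_mul, mul_right_comm, ← Matrix.det_mul, ← Units.val_mul, mul_inv_cancel,
        Units.val_one, Matrix.det_one, one_mul]
    refine ⟨(w' : Matrix (Fin 2) (Fin 2) (ZMod p)) 1 1, ?_, ?_⟩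
    · have h2 : (w' : Matrix (Fin 2) (Fin 2) (ZMod p)) *ᵥ ![0, 1] =
          (w' : Matrix (Fin 2) (Fin 2) (ZMod p)) 1 1 • ![0, 1] := by
        ext i
        fin_cases i
        · change ((w' : Matrix (Fin 2) (Fin 2) (ZMod p)) *ᵥ ![0, 1]) 0 = _
          rw [mulVec_zero_apply]
          simp [h01]
        · change ((w' : Matrix (Fin 2) (Fin 2) (ZMod p)) *ᵥ ![0, 1]) 1 = _
          rw [mulVec_one_apply]
          simp
      rw [hw', conj_mulVec hgu, ← hw'] at h2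
      have h3 := congrArg (fun t => ((g⁻¹ : GL (Fin 2) (ZMod p)) : Matrix (Fin 2) (Fin 2) (ZMod p)) *ᵥ t) h2
      rw [inv_mulVec, Matrix.mulVec_smul, ← hu] at h3
      exact h3
    · rw [← hdet, Matrix.det_fin_two, h01, h10, h00]; ring

end Cfsg.Agent.H775.Cube
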