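import Cfsg.Agent.H775.CubeThree

set_option autoImplicit false
set_option linter.unusedSectionVars false

/-!
# Configurations with three lines: `p = 3`
-/

namespace Cfsg.Agent.H775.Cube

open Matrix

/-- The eight monomial matrices. -/
def S8 : Finset (Matrix (Fin 2) (Fin 2) (ZMod 3)) :=
  {!![1, 0; 0, 1], !![1, 0; 0, -1], !![-1, 0; 0, 1], !![-1, 0; 0, -1],
    !![0, 1; 1, 0], !![0, 1; -1, 0], !![0, -1; 1, 0], !![0, -1; -1, 0]}

theorem card_S8 : S8.card = 8 := by decide +kernel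

theorem card_GL : Nat.card (GL (Fin 2) (ZMod 3)) = 48 := by
  rw [Matrix.card_GL_field]
  rw [ZMod.card]
  simp [Fin.prod_univ_two]

theorem pow4_3 : ∀ x : ZMod 3, x ≠ 0 → x ^ 4 = 1 := by decide +kernel

theorem one_ne3 : (1 : ZMod 3) ≠ 0 := by decide

theorem neg_one_ne3 : (-1 : ZMod 3) ≠ 0 := by decide

theorem sextic3 : ∀ x y : ZMod 3, x * y * (x ^ 4 - y ^ 4) = 0 := by decide +kernel

theorem mem_S8 [Fact (Nat.Prime 3)] {W : Subgroup (GL (Fin 2) (ZMod 3))} (hW : W1 3 ≤ W)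
    {M : Matrix (Fin 2) (Fin 2) (ZMod 3)} (hM : M ∈ S8) : ∃ w ∈ W, (w : Matrix (Fin 2) (Fin 2) (ZMod 3)) = M := by
  have hd : ∀ x y : ZMod 3, x ≠ 0 → y ≠ 0 → ∃ w ∈ W, (w : Matrix (Fin 2) (Fin 2) (ZMod 3)) = !![x, 0; 0, y] := by
    intro x y hx hy
    obtain ⟨w, hw⟩ := exists_diag hx hy
    refine ⟨w, hW (mem_W1_of_diag hx hy ?_ hw), hw⟩
    rw [pow4_3 x hx, pow4_3 y hy]
  obtain ⟨s, hs, hsm⟩ := exists_swap (p := 3)
  have ha : ∀ x y : ZMod 3, x ≠ 0 → y ≠ 0 → ∃ w ∈ W, (w : Matrix (Fin 2) (Fin 2) (ZMod 3)) = !![0, x; y, 0] := by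
    intro x y hx hy
    obtain ⟨w, hw, hwm⟩ := hd (-y) (-x) (neg_ne_zero.2 hy) (neg_ne_zero.2 hx)
    refine ⟨s * w, W.mul_mem (hW hs) hw, ?_⟩
    rw [Units.val_mul, hsm, hwm, Matrix.mul_fin_two]
    simp
  have h1 := one_ne3
  have h2 := neg_one_ne3
  unfold S8 at hM
  simp only [Finset.mem_insert, Finset.mem_singleton] at hM
  rcases hM with rfl | rfl | rfl | rfl | rfl | rfl | rfl | rfl
  · exact hd 1 1 h1 h1
  · exact hd 1 (-1) h1 h2
  · exact hd (-1) 1 h2 h1
  · exact hd (-1) (-1) h2 h2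
  · exact ha 1 1 h1 h1
  · exact ha 1 (-1) h1 h2
  · exact ha (-1) 1 h2 h1
  · exact ha (-1) (-1) h2 h2

theorem eight_le [Fact (Nat.Prime 3)] {W : Subgroup (GL (Fin 2) (ZMod 3))} (hW : W1 3 ≤ W) : 8 ≤ Nat.card W := by
  classical
  have h1 : Nat.card W = Set.ncard ((fun g : GL (Fin 2) (ZMod 3) => (g : Matrix (Fin 2) (Fin 2) (ZMod 3))) ''
      (W : Set (GL (Fin 2) (ZMod 3)))) := by
    rw [Set.ncard_image_of_injective _ Units.val_injective]
    rfl
  rw [h1, ← card_S8, ← Set.ncard_coe_finset]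
  apply Set.ncard_le_ncard _ (Set.toFinite _)
  intro M hM
  obtain ⟨w, hw, hwm⟩ := mem_S8 hW (Finset.mem_coe.1 hM)
  exact ⟨w, hw, hwm⟩

theorem card_of_three [Fact (Nat.Prime 3)] {W : Subgroup (GL (Fin 2) (ZMod 3))} (hW : W1 3 ≤ W)
    (hp' : ¬ 3 ∣ Nat.card W) : Nat.card W = 8 ∨ Nat.card W = 16 := by
  have h1 := Subgroup.card_subgroup_dvd_card W
  rw [card_GL] at h1
  have h2 := eight_le hW
  have h3 : Nat.card W ∣ 16 := by
    have h4 : Nat.Coprime (Nat.card W) 3 := ((Nat.Prime.coprime_iff_not_dvd Nat.prime_three).2 hp').symm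
    have h5 : Nat.card W ∣ 16 * 3 := by norm_num; exact h1
    exact h4.dvd_of_dvd_mul_right h5
  have h4 := Nat.le_of_dvd (by norm_num) h3
  interval_cases h : Nat.card W <;> revert h3 <;> decide

/-- **Uniqueness** for `p = 3`. -/
theorem conj_of_three_three [Fact (Nat.Prime 3)] {W W' : Subgroup (GL (Fin 2) (ZMod 3))} {L L' : Set (Fin 2 → ZMod 3)}
    (h : VConf W L) (h3 : ThreeV L) (h' : VConf W' L') (h3' : ThreeV L') (hc : Nat.card W = Nat.card W') :
    ∃ g : GL (Fin 2) (ZMod 3), W' = W.map (MulAut.conj g).toMonoidHom ∧ L' = img g L := by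
  have hp3 : 3 = 3 ∨ 3 = 5 ∨ 3 = 13 := Or.inl rfl
  have hp2 : 3 ≠ 2 := by norm_num
  obtain ⟨g, hg, hg1⟩ := exists_std_one hp2 h h3
  obtain ⟨g', hg', hg1'⟩ := exists_std_one hp2 h' h3'
  have e1 := hg.W1_le hp3 hg1
  have e2 := hg'.W1_le hp3 hg1'
  have e3 := hg.eq_L0 hp3 hg1
  have e4 := hg'.eq_L0 hp3 hg1'
  have hL : img g L = img g' L' := e3.trans e4.symm
  have hL0 : ∀ v : Fin 2 → ZMod 3, v ∈ L0 3 ↔ v ≠ 0 := by
    intro v
    constructor
    · exact fun h => h.1
    · intro hv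
      refine ⟨hv, ?_⟩
      exact sextic3 _ _
  have hk1 : Nat.card (W.map (MulAut.conj g).toMonoidHom) = Nat.card W :=
    Subgroup.card_map_of_injective (MulAut.conj g).injective
  have hk2 : Nat.card (W'.map (MulAut.conj g').toMonoidHom) = Nat.card W' :=
    Subgroup.card_map_of_injective (MulAut.conj g').injective
  rcases card_of_three e1 hg.pprime with h8 | h16
  · have f1 : W.map (MulAut.conj g).toMonoidHom = W1 3 := by
      symm
      apply Subgroup.eq_of_le_of_card_ge e1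
      rw [h8]
      exact eight_le le_rfl
    have f2 : W'.map (MulAut.conj g').toMonoidHom = W1 3 := by
      symm
      apply Subgroup.eq_of_le_of_card_ge e2
      rw [hk2, ← hc, ← hk1, h8]
      exact eight_le le_rfl
    exact ⟨_, conj_of_eq (f1.trans f2.symm) hL⟩
  · -- Sylow's theorem
    have hfact : Fact (Nat.Prime 2) := ⟨Nat.prime_two⟩
    have hfac : (Nat.card (GL (Fin 2) (ZMod 3))).factorization 2 = 4 := by
      rw [card_GL]
      have : (48 : ℕ) = 2 ^ 4 * 3 := by norm_num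
      rw [this, Nat.factorization_mul (by norm_num) (by norm_num), Nat.Prime.factorization_pow Nat.prime_two,
        Nat.Prime.factorization Nat.prime_three]
      simp
    set P := Sylow.ofCard (p := 2) W (by rw [hfac, ← hk1, h16]; norm_num) with hP
    set Q := Sylow.ofCard (p := 2) W' (by rw [hfac, ← hc, ← hk1, h16]; norm_num) with hQ
    obtain ⟨x, hx⟩ := MulAction.exists_smul_eq (GL (Fin 2) (ZMod 3)) P Q
    refine ⟨x, ?_, ?_⟩
    · have h1 : ((x • P : Sylow 2 (GL (Fin 2) (ZMod 3))) : Subgroup (GL (Fin 2) (ZMod 3))) =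
          W.map (MulAut.conj x).toMonoidHom := by
        rw [Sylow.coe_subgroup_smul]
        rfl
      rw [← h1, hx]
      rfl
    · have g1 : ∀ v, v ∈ L ↔ v ≠ 0 := by
        intro v
        have : v ∈ L ↔ (g : Matrix (Fin 2) (Fin 2) (ZMod 3)) *ᵥ v ∈ img g L := by
          rw [mem_img, inv_mulVec]
        rw [this, e3, hL0]
        constructor
        · rintro h rfl
          exact h (Matrix.mulVec_zero _)
        · intro h h2
          apply h
          rw [← inv_mulVec g v, h2, Matrix.mulVec_zero]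
      have g2 : ∀ v, v ∈ L' ↔ v ≠ 0 := by
        intro v
        have : v ∈ L' ↔ (g' : Matrix (Fin 2) (Fin 2) (ZMod 3)) *ᵥ v ∈ img g' L' := by
          rw [mem_img, inv_mulVec]
        rw [this, e4, hL0]
        constructor
        · rintro h rfl
          exact h (Matrix.mulVec_zero _)
        · intro h h2
          apply h
          rw [← inv_mulVec g' v, h2, Matrix.mulVec_zero]
      ext v
      rw [g2, mem_img, g1]
      constructor
      · intro h h2
        apply h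
        rw [← mulVec_inv x v, h2, Matrix.mulVec_zero]
      · rintro h rfl
        exact h (Matrix.mulVec_zero _)

end Cfsg.Agent.H775.Cube
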