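import Cfsg.Agent.H775.CubeFin

set_option autoImplicit false
set_option linter.unusedSectionVars false

/-!
# Configurations in standard position
-/

namespace Cfsg.Agent.H775.Cube

open Matrix

variable {p : ℕ} [hp : Fact p.Prime]

/-- Standard position: the first axis is in `L` and the reflection `diag(-1,1)` is in `W`. -/
structure Std (W : Subgroup (GL (Fin 2) (ZMod p))) (L : Set (Fin 2 → ZMod p)) : Prop extends VConf W L where
  e1 : ![1, 0] ∈ L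
  refl : ∃ r ∈ W, (r : Matrix (Fin 2) (Fin 2) (ZMod p)) = !![-1, 0; 0, 1]

variable {W : Subgroup (GL (Fin 2) (ZMod p))} {L : Set (Fin 2 → ZMod p)}

theorem vec_ext {v w : Fin 2 → ZMod p} (h0 : v 0 = w 0) (h1 : v 1 = w 1) : v = w := by
  ext i
  fin_cases i
  · exact h0
  · exact h1

theorem exists_std (hp2 : p ≠ 2) (h : VConf W L) {v : Fin 2 → ZMod p} (hv : v ∈ L) :
    ∃ g : GL (Fin 2) (ZMod p), (g : Matrix (Fin 2) (Fin 2) (ZMod p)) *ᵥ v = ![1, 0] ∧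
      Std (W.map (MulAut.conj g).toMonoidHom) (img g L) := by
  obtain ⟨g, hg, hr⟩ := exists_norm hp2 h hv
  exact ⟨g, hg, h.conj g, ⟨v, hv, hg⟩, hr⟩

/-- `diag(a⁻¹,a²)` is in `W`. -/
theorem Std.diag_mem (hp2 : p ≠ 2) (h : Std W L) {a : ZMod p} (ha : a ≠ 0) :
    ∃ w ∈ W, (w : Matrix (Fin 2) (Fin 2) (ZMod p)) = !![a⁻¹, 0; 0, a ^ 2] := by
  obtain ⟨r, hr, hR⟩ := h.refl
  obtain ⟨w, hw, h1, h2⟩ := h.diag _ h.e1 (Units.mk0 a ha)
  have h3 : (((Units.mk0 a ha)⁻¹ : (ZMod p)ˣ) : ZMod p) = a⁻¹ := by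
    rw [Units.val_inv_eq_inv_val, Units.val_mk0]
  rw [h3] at h1
  rw [Units.val_mk0] at h2
  have h00 : (w : Matrix (Fin 2) (Fin 2) (ZMod p)) 0 0 = a⁻¹ := by
    have := congrFun h1 0
    rw [mulVec_zero_apply] at this
    simpa using this
  have h10 : (w : Matrix (Fin 2) (Fin 2) (ZMod p)) 1 0 = 0 := by
    have := congrFun h1 1
    rw [mulVec_one_apply] at this
    simpa using this
  have h01 := diag_of_fix hp2 h.pprime hr hR hw h10
  rw [Matrix.det_fin_two, h00, h01, zero_mul, sub_zero] at h2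
  refine ⟨w, hw, ?_⟩
  ext i j
  fin_cases i <;> fin_cases j
  · exact h00
  · exact h01
  · exact h10
  · change (w : Matrix (Fin 2) (Fin 2) (ZMod p)) 1 1 = a ^ 2
    field_simp at h2
    rw [h2]

theorem Std.pmV (hp2 : p ≠ 2) (h : Std W L) {a : ZMod p} (ha : a ≠ 0) : PM W (toM (tV (a * a * a))) := by
  obtain ⟨w, hw, h1⟩ := h.diag_mem hp2 ha
  refine ⟨w, hw, a⁻¹, inv_ne_zero ha, ?_⟩
  rw [h1]
  unfold toM tV
  ext i j
  fin_cases i <;> fin_cases j <;> simp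
  field_simp

/-- The partner of `(1,1)` is `(1,-1)`. -/
theorem Std.partner_one (hp' : p = 3 ∨ p = 5 ∨ p = 13) (h : Std W L) (h1 : ![1, 1] ∈ L)
    {w : GL (Fin 2) (ZMod p)} (hw : w ∈ W) {c : ZMod p}
    (hc : (w : Matrix (Fin 2) (Fin 2) (ZMod p)) *ᵥ ![1, 1] = c • ![1, 1]) :
    ∃ d : ZMod p, (w : Matrix (Fin 2) (Fin 2) (ZMod p)) *ᵥ ![1, -1] = d • ![1, -1] ∧
      (w : Matrix (Fin 2) (Fin 2) (ZMod p)).det = c * d := by
  have hp2 : p ≠ 2 := by rcases hp' with h | h | h <;> omega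
  obtain ⟨u, hu, hpar⟩ := partner hp2 h.toVConf h1
  simp only [Matrix.cons_val_zero, Matrix.cons_val_one, one_mul] at hu
  have hst : u 0 ≠ u 1 := fun h => hu (by rw [h]; ring)
  have hU : ∀ a : ZMod p, a ≠ 0 → PM W (toM (tU (u 0) (u 1) (a * a * a))) := by
    intro a ha
    obtain ⟨w, hw, h2, h3⟩ := h.diag _ h1 (Units.mk0 a ha)
    have h4 : (((Units.mk0 a ha)⁻¹ : (ZMod p)ˣ) : ZMod p) = a⁻¹ := by
      rw [Units.val_inv_eq_inv_val, Units.val_mk0]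
    rw [h4] at h2
    rw [Units.val_mk0] at h3
    obtain ⟨d, h5, h6⟩ := hpar w hw _ h2
    have hd : d = a ^ 2 := by
      rw [h3] at h6
      field_simp at h6
      exact h6.symm
    rw [hd] at h5
    have e0 := congrFun h2 0
    have e1 := congrFun h2 1
    have e2 := congrFun h5 0
    have e3 := congrFun h5 1
    rw [mulVec_zero_apply] at e0 e2
    rw [mulVec_one_apply] at e1 e3
    simp only [Matrix.cons_val_zero, Matrix.cons_val_one, mul_one, Pi.smul_apply, smul_eq_mul] at e0 e1 e2 e3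
    have hdu : u 1 - u 0 ≠ 0 := hu
    refine ⟨w, hw, a⁻¹ / (u 1 - u 0), div_ne_zero (inv_ne_zero ha) hdu, ?_⟩
    unfold toM tU
    have f1 : (w : Matrix (Fin 2) (Fin 2) (ZMod p)) 0 1 * (u 1 - u 0) = a ^ 2 * u 0 - a⁻¹ * u 0 := by
      linear_combination e2 - u 0 * e0
    have f3 : (w : Matrix (Fin 2) (Fin 2) (ZMod p)) 1 1 * (u 1 - u 0) = a ^ 2 * u 1 - a⁻¹ * u 0 := by
      linear_combination e3 - u 0 * e1
    have f0 : (w : Matrix (Fin 2) (Fin 2) (ZMod p)) 0 0 * (u 1 - u 0) = a⁻¹ * u 1 - a ^ 2 * u 0 := by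
      linear_combination (u 1) * e0 - e2
    have f2 : (w : Matrix (Fin 2) (Fin 2) (ZMod p)) 1 0 * (u 1 - u 0) = a⁻¹ * u 1 - a ^ 2 * u 1 := by
      linear_combination (u 1) * e1 - e3
    have hinv : a⁻¹ * (a * a * a) = a ^ 2 := by field_simp
    ext i j
    fin_cases i <;> fin_cases j
    · change (w : Matrix (Fin 2) (Fin 2) (ZMod p)) 0 0 = a⁻¹ / (u 1 - u 0) * (u 1 - a * a * a * u 0)
      rw [div_mul_eq_mul_div, eq_div_iff hdu, f0, ← hinv]; ring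
    · change (w : Matrix (Fin 2) (Fin 2) (ZMod p)) 0 1 = a⁻¹ / (u 1 - u 0) * (u 0 * (a * a * a - 1))
      rw [div_mul_eq_mul_div, eq_div_iff hdu, f1, ← hinv]; ring
    · change (w : Matrix (Fin 2) (Fin 2) (ZMod p)) 1 0 = a⁻¹ / (u 1 - u 0) * (u 1 * (1 - a * a * a))
      rw [div_mul_eq_mul_div, eq_div_iff hdu, f2, ← hinv]; ring
    · change (w : Matrix (Fin 2) (Fin 2) (ZMod p)) 1 1 = a⁻¹ / (u 1 - u 0) * (a * a * a * u 1 - u 0)
      rw [div_mul_eq_mul_div, eq_div_iff hdu, f3, ← hinv]; ring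
  have hneg := harm hp' h.pprime hst (fun a ha => h.pmV hp2 ha) hU
  obtain ⟨d, h5, h6⟩ := hpar w hw c hc
  have hu0 : u 0 ≠ 0 := by
    intro h0
    apply hst
    rw [hneg, h0, neg_zero]
  have hu' : u = u 0 • ![1, -1] := by
    apply vec_ext
    · simp
    · simp [hneg]
  rw [hu', Matrix.mulVec_smul, smul_comm] at h5
  exact ⟨d, smul_right_injective _ hu0 h5, h6⟩

/-- Standard position is preserved by diagonal matrices. -/
theorem Std.rescale (h : Std W L) {x y : ZMod p} (hx : x ≠ 0) (hy : y ≠ 0) {g : GL (Fin 2) (ZMod p)}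
    (hg : (g : Matrix (Fin 2) (Fin 2) (ZMod p)) = !![x, 0; 0, y]) :
    Std (W.map (MulAut.conj g).toMonoidHom) (img g L) := by
  refine ⟨h.conj g, ⟨x⁻¹ • ![1, 0], h.smul _ h.e1 _ (inv_ne_zero hx), ?_⟩, ?_⟩
  · change (g : Matrix (Fin 2) (Fin 2) (ZMod p)) *ᵥ _ = _
    rw [hg]
    apply vec_ext
    · rw [mulVec_zero_apply]; simp [hx]
    · rw [mulVec_one_apply]; simp
  · obtain ⟨r, hr, hR⟩ := h.refl
    refine ⟨(MulAut.conj g).toMonoidHom r, ⟨r, hr, rfl⟩, ?_⟩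
    have hc : g * r = r * g := by
      apply Units.ext
      rw [Units.val_mul, Units.val_mul, hg, hR, Matrix.mul_fin_two, Matrix.mul_fin_two]
      simp
    have : (MulAut.conj g).toMonoidHom r = r := by
      change g * r * g⁻¹ = r
      rw [hc, mul_inv_cancel_right]
    rw [this, hR]

theorem exists_diag {x y : ZMod p} (hx : x ≠ 0) (hy : y ≠ 0) :
    ∃ g : GL (Fin 2) (ZMod p), (g : Matrix (Fin 2) (Fin 2) (ZMod p)) = !![x, 0; 0, y] :=
  ⟨Matrix.GeneralLinearGroup.mkOfDetNeZero !![x, 0; 0, y]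
    (by rw [Matrix.det_fin_two_of]; simp [hx, hy]), rfl⟩

theorem det_conj (g w : GL (Fin 2) (ZMod p)) :
    (((MulAut.conj g).toMonoidHom w : GL (Fin 2) (ZMod p)) : Matrix (Fin 2) (Fin 2) (ZMod p)).det =
      (w : Matrix (Fin 2) (Fin 2) (ZMod p)).det := by
  have h3 : (((MulAut.conj g).toMonoidHom w : GL (Fin 2) (ZMod p)) : Matrix (Fin 2) (Fin 2) (ZMod p)) =
      (g : Matrix (Fin 2) (Fin 2) (ZMod p)) * (w : Matrix (Fin 2) (Fin 2) (ZMod p)) *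
        ((g⁻¹ : GL (Fin 2) (ZMod p)) : Matrix (Fin 2) (Fin 2) (ZMod p)) := by
    rw [← Units.val_mul, ← Units.val_mul]
    rfl
  rw [h3, Matrix.det_mul, Matrix.det_mul, mul_right_comm, ← Matrix.det_mul, ← Units.val_mul, mul_inv_cancel,
    Units.val_one, Matrix.det_one, one_mul]

/-- The partner of a general vector. -/
theorem Std.partner_gen (hp' : p = 3 ∨ p = 5 ∨ p = 13) (h : Std W L) {v : Fin 2 → ZMod p} (hv : v ∈ L)
    (h0 : v 0 ≠ 0) (h1 : v 1 ≠ 0) {w : GL (Fin 2) (ZMod p)} (hw : w ∈ W) {c : ZMod p}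
    (hc : (w : Matrix (Fin 2) (Fin 2) (ZMod p)) *ᵥ v = c • v) :
    ∃ d : ZMod p, (w : Matrix (Fin 2) (Fin 2) (ZMod p)) *ᵥ ![v 0, - v 1] = d • ![v 0, - v 1] ∧
      (w : Matrix (Fin 2) (Fin 2) (ZMod p)).det = c * d := by
  obtain ⟨g, hg⟩ := exists_diag (inv_ne_zero h0) (inv_ne_zero h1)
  have h' := h.rescale (inv_ne_zero h0) (inv_ne_zero h1) hg
  have hgv : (g : Matrix (Fin 2) (Fin 2) (ZMod p)) *ᵥ v = ![1, 1] := by
    rw [hg]
    apply vec_ext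
    · rw [mulVec_zero_apply]; simp [h0]
    · rw [mulVec_one_apply]; simp [h1]
  have hgu : (g : Matrix (Fin 2) (Fin 2) (ZMod p)) *ᵥ ![v 0, - v 1] = ![1, -1] := by
    rw [hg]
    apply vec_ext
    · rw [mulVec_zero_apply]; simp [h0]
    · rw [mulVec_one_apply]; simp [h1]
  have hmem : ![1, 1] ∈ img g L := ⟨v, hv, hgv⟩
  have hc' : (((MulAut.conj g).toMonoidHom w : GL (Fin 2) (ZMod p)) : Matrix (Fin 2) (Fin 2) (ZMod p)) *ᵥ ![1, 1] =
      c • ![1, 1] := by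
    rw [conj_mulVec hgv, hc, Matrix.mulVec_smul, hgv]
  obtain ⟨d, h2, h3⟩ := h'.partner_one hp' hmem ⟨w, hw, rfl⟩ hc'
  rw [conj_mulVec hgu] at h2
  rw [det_conj] at h3
  refine ⟨d, ?_, h3⟩
  have h4 := congrArg (fun t => ((g⁻¹ : GL (Fin 2) (ZMod p)) : Matrix (Fin 2) (Fin 2) (ZMod p)) *ᵥ t) h2
  have h5 : ((g⁻¹ : GL (Fin 2) (ZMod p)) : Matrix (Fin 2) (Fin 2) (ZMod p)) *ᵥ ![1, -1] = ![v 0, - v 1] := by
    rw [← hgu, inv_mulVec]
  change ((g⁻¹ : GL (Fin 2) (ZMod p)) : Matrix (Fin 2) (Fin 2) (ZMod p)) *ᵥ _ =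
    ((g⁻¹ : GL (Fin 2) (ZMod p)) : Matrix (Fin 2) (Fin 2) (ZMod p)) *ᵥ (d • ![1, -1]) at h4
  rw [inv_mulVec, Matrix.mulVec_smul, h5] at h4
  exact h4

end Cfsg.Agent.H775.Cube
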