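import Cfsg.Agent.H777.ElimDef

/-!
# Interface for the elimination of the simple groups with a certain Sylow 3-subgroup of order `3 ^ 7` (helper775)

For S5231: the Sylow 3-subgroup has exponent 3 and its abelian subgroups have order at most `3 ^ 5`. `Row7 K`: if the
3-part of `|K|` is `3 ^ 7` then `K` has an abelian 3-subgroup of order at least `3 ^ 6` or an element of order 9.
-/

set_option autoImplicit false

namespace Cfsg.Agent.H775.Elim7

open Cfsg.Agent.H777.Elim

/-- an abelian 3-subgroup of order at least `3 ^ 6`, or an element of order 9 -/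
def Big7 (K : Type*) [Group K] : Prop :=
  (∃ A : Subgroup K, IsPGroup 3 A ∧ (∀ x ∈ A, ∀ y ∈ A, x * y = y * x) ∧ 3 ^ 6 ≤ Nat.card A) ∨
    ∃ x : K, orderOf x = 9

/-- the row to be proved -/
def Row7 (K : Type*) [Group K] : Prop := Vn 7 K → Big7 K

theorem Big7.congr {K L : Type*} [Group K] [Group L] (e : K ≃* L) (h : Big7 K) : Big7 L := by
  rcases h with ⟨A, hA, hab, hc⟩ | ⟨x, hx⟩
  · refine Or.inl ⟨A.map e.toMonoidHom, hA.map _, ?_, ?_⟩
    · rintro _ ⟨x, hx, rfl⟩ _ ⟨y, hy, rfl⟩
      rw [← map_mul, ← map_mul, hab x hx y hy]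
    · rw [← Nat.card_congr (A.equivMapOfInjective e.toMonoidHom e.injective).toEquiv]
      exact hc
  · exact Or.inr ⟨e x, by rw [← hx]; exact MulEquiv.orderOf_eq e x⟩

theorem Row7.congr {K L : Type*} [Group K] [Group L] (e : K ≃* L) (h : Row7 K) : Row7 L := by
  intro hV
  apply (h _).congr e
  unfold Vn at hV ⊢
  rwa [Nat.card_congr e.toEquiv]

/-- `Big` implies `Big7`: an element of order 81 has a power of order 9 -/
theorem Big7.of_big {K : Type*} [Group K] (h : Big K) : Big7 K := by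
  rcases h with h | ⟨x, hx⟩
  · exact Or.inl h
  · exact Or.inr ⟨x ^ 9, by rw [orderOf_pow' x (by norm_num), hx]; norm_num⟩

/-- `Big7` from an element whose order is divisible by 9 -/
theorem Big7.of_dvd {K : Type*} [Group K] {x : K} (h0 : orderOf x ≠ 0) (h : 9 ∣ orderOf x) : Big7 K := by
  obtain ⟨m, hm⟩ := h
  have hm0 : m ≠ 0 := by rintro rfl; exact h0 (by rw [hm])
  refine Or.inr ⟨x ^ m, ?_⟩
  rw [orderOf_pow' x hm0, hm, Nat.gcd_mul_left_left, Nat.mul_div_cancel _ (Nat.pos_of_ne_zero hm0)]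

end Cfsg.Agent.H775.Elim7
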