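import Cfsg.Agent.H775.GenSys
import Cfsg.Agent.H802.FusNorm
import Cfsg.Agent.H802.FusAlp
import Cfsg.Agent.H802.FusCentric
import Cfsg.Agent.S5110

/-!
# Adding automorphisms of a minimal centric subgroup to a saturated fusion system (helper775)

`F₀` saturated over `S`, `E ≤ S` fully automized, receptive and centric in `F₀`, no proper subgroup of `E` centric in
`F₀`, `Aut_{F₀}(E) ≤ Δ ≤ Aut(E)` of index prime to `p`, and `Aut_{F₀}(E)` meets its `δ`-conjugate (`δ ∈ Δ` outside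
`Aut_{F₀}(E)`) in a group of order prime to `p`. Then the system `ext F₀ E Δ` generated by `F₀` and `Δ` is saturated.
(Broto-Levi-Oliver, Proposition 5.1.)
-/

set_option autoImplicit false

namespace Cfsg.Agent.H775.Ext

open Cfsg Cfsg.FusionSystem Cfsg.Agent.H802

variable {Ω : Type*} [Group Ω] {S : Subgroup Ω}

/-- The generating family: the maps of `F₀` and the restrictions of the elements of `Δ` to subgroups of `E`. -/
def fam (F₀ : FusionSystem S) (E : Subgroup Ω) (Δ : Subgroup (MulAut E)) (P : Subgroup Ω) :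
    Set (P →* Ω) :=
  {φ | φ ∈ F₀.Hom P ∨ ∃ hP : P ≤ E, ∃ δ ∈ Δ, ∀ x : P, φ x = ((δ ⟨x, hP x.2⟩ : E) : Ω)}

theorem isBase_fam (F₀ : FusionSystem S) {E : Subgroup Ω} (hE : E ≤ S) (Δ : Subgroup (MulAut E)) :
    IsBase S (fam F₀ E Δ) where
  le := by
    rintro P φ (h | ⟨hP, δ, hδ, h⟩)
    · exact F₀.le_of_mem h
    · exact ⟨hP.trans hE, fun x => by rw [h]; exact hE (δ _).2⟩
  inj := by
    rintro P φ (h | ⟨hP, δ, hδ, h⟩)
    · exact F₀.injective_of_mem h
    · intro x y hxy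
      rw [h, h] at hxy
      have h1 := δ.injective (Subtype.ext hxy)
      exact Subtype.ext (congrArg (fun z : E => (z : Ω)) h1)
  conj := fun hP hg => Or.inl (F₀.conj_mem hP hg)
  res := by
    rintro P R φ (h | ⟨hP, δ, hδ, h⟩) hR
    · exact Or.inl (restrict_mem h hR)
    · exact Or.inr ⟨hR.trans hP, δ, hδ, fun x => h (Subgroup.inclusion hR x)⟩
  inv := by
    rintro P φ (h | ⟨hP, δ, hδ, h⟩)
    · obtain ⟨ψ, hψ, he⟩ := F₀.inv_mem h
      exact ⟨ψ, Or.inl hψ, he⟩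
    · have hrE : φ.range ≤ E := by
        rintro _ ⟨x, rfl⟩
        rw [h]
        exact (δ _).2
      refine ⟨(E.subtype.comp (δ⁻¹ : MulAut E).toMonoidHom).comp (Subgroup.inclusion hrE),
        Or.inr ⟨hrE, δ⁻¹, inv_mem hδ, fun x => rfl⟩, fun x => ?_⟩
      show (((δ⁻¹ : MulAut E) ⟨φ x, hrE ⟨x, rfl⟩⟩ : E) : Ω) = x
      have h1 : (⟨φ x, hrE ⟨x, rfl⟩⟩ : E) = δ ⟨x, hP x.2⟩ := Subtype.ext (h x)
      rw [h1]
      exact congrArg Subtype.val (δ.symm_apply_apply _)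

/-- The fusion system generated by `F₀` and `Δ ≤ Aut(E)`. -/
def ext (F₀ : FusionSystem S) {E : Subgroup Ω} (hE : E ≤ S) (Δ : Subgroup (MulAut E)) : FusionSystem S :=
  genSystem (isBase_fam F₀ hE Δ)

/-- `P` is conjugate in `F₀` to a subgroup of `E`. -/
def Sub (F₀ : FusionSystem S) (E P : Subgroup Ω) : Prop := ∃ φ ∈ F₀.Hom P, ∀ x : P, φ x ∈ E

variable {F₀ : FusionSystem S} {E : Subgroup Ω} {Δ : Subgroup (MulAut E)} {hE : E ≤ S}

theorem le_ext (hE : E ≤ S) : F₀ ≤ ext F₀ hE Δ := fun _ _ h => Gen.base (Or.inl h)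

theorem delta_mem_ext (hE : E ≤ S) {δ : MulAut E} (hδ : δ ∈ Δ) :
    E.subtype.comp δ.toMonoidHom ∈ (ext F₀ hE Δ).Hom E :=
  Gen.base (Or.inr ⟨le_rfl, δ, hδ, fun _ => rfl⟩)

theorem ext_le {F' : FusionSystem S} (h0 : F₀ ≤ F') (h1 : Δ ≤ F'.autGroup E) : ext F₀ hE Δ ≤ F' := by
  refine genSystem_le _ (fun P φ hφ => ?_)
  rcases hφ with h | ⟨hP, δ, hδ, h⟩
  · exact h0 P h
  · exact aut_restrict_mem hE (h1 hδ) hP (fun x hx => h ⟨x, hx⟩)

theorem Sub.mono {P R : Subgroup Ω} (h : Sub F₀ E P) (hR : R ≤ P) : Sub F₀ E R := by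
  obtain ⟨φ, hφ, hm⟩ := h
  exact ⟨_, restrict_mem hφ hR, fun x => hm _⟩

theorem Sub.of_map {P Q : Subgroup Ω} {φ : P →* Ω} (hφ : φ ∈ F₀.Hom P) (hm : ∀ x : P, φ x ∈ Q)
    (h : Sub F₀ E Q) : Sub F₀ E P := by
  obtain ⟨ψ, hψ, hm'⟩ := h
  obtain ⟨χ, hχ, he⟩ := exists_comp hφ hψ hm
  exact ⟨χ, hχ, fun x => by rw [he]; exact hm' _⟩

theorem rmem {P Q : Subgroup Ω} {φ : P →* Ω} (hr : φ.range = Q) (x : P) : φ x ∈ Q := hr ▸ ⟨x, rfl⟩

/-- Maps whose source is not conjugate into `E` are maps of `F₀`. -/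
theorem mem_of_not_sub (hE : E ≤ S) {P : Subgroup Ω} {φ : P →* Ω} (h : Gen (fam F₀ E Δ) P φ) :
    ¬ Sub F₀ E P → φ ∈ F₀.Hom P := by
  induction h with
  | @base P φ h =>
    intro hn
    rcases h with h | ⟨hP, δ, hδ, h⟩
    · exact h
    · exfalso
      by_cases hPS : P ≤ S
      · exact hn ⟨_, subtype_mem F₀ hPS, fun x => hP x.2⟩
      · exact hPS (hP.trans hE)
  | @comp P Q φ ψ hφ hψ h ih1 ih2 =>
    intro hn
    have h1 := ih1 hn
    have h2 := ih2 (fun hs => hn (Sub.of_map h1 h hs))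
    exact F₀.comp_mem h1 h2 h

theorem ext_hom_eq (hE : E ≤ S) {P : Subgroup Ω} (hn : ¬ Sub F₀ E P) :
    (ext F₀ hE Δ).Hom P = F₀.Hom P :=
  Set.Subset.antisymm (fun _ h => mem_of_not_sub hE h hn) (fun _ h => le_ext hE P h)

theorem card_le_of_sub [Finite S] (hE : E ≤ S) {P : Subgroup Ω} (h : Sub F₀ E P) : Nat.card P ≤ Nat.card E := by
  obtain ⟨φ, hφ, hm⟩ := h
  have : Finite E := finite_of_le hE
  exact Nat.card_le_card_of_injective (fun x : P => (⟨φ x, hm x⟩ : E))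
    (fun x y hxy => F₀.injective_of_mem hφ (congrArg Subtype.val hxy))

/-- The maps whose source is conjugate to `E`. -/
theorem factor_of_iso [Finite S] (hE : E ≤ S) (hΔ : F₀.autGroup E ≤ Δ) {P : Subgroup Ω} {φ : P →* Ω}
    (h : Gen (fam F₀ E Δ) P φ) :
    ∀ (α : P →* Ω) (_ : α ∈ F₀.Hom P) (hr : α.range = E),
      ∃ δ ∈ Δ, ∃ β ∈ F₀.Hom E, ∀ x : P, φ x = β (δ ⟨α x, rmem hr x⟩) := by
  have hfinE : Finite E := finite_of_le hE
  induction h with
  | @base P φ h =>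
    intro α hα hr
    rcases h with h | ⟨hP, δ, hδ, h⟩
    · obtain ⟨α', hα', -, h1, h2⟩ := exists_inv hα hr
      have hm : ∀ y : E, α' y ∈ P := by
        intro y
        obtain ⟨x, hx⟩ : (y : Ω) ∈ α.range := hr ▸ y.2
        have h3 := h1 x (rmem hr x)
        have h4 : (⟨α x, rmem hr x⟩ : E) = y := Subtype.ext hx
        rw [h4] at h3
        rw [h3]
        exact x.2
      obtain ⟨β, hβ, he⟩ := exists_comp hα' h hm
      refine ⟨1, one_mem _, β, hβ, fun x => ?_⟩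
      rw [he]
      congr 1
      apply Subtype.ext
      exact (h1 x _).symm
    · -- `P = E`
      have hcard : Nat.card P = Nat.card E := isConj_card_eq ⟨α, hα, hr⟩
      obtain rfl : P = E := Subgroup.eq_of_le_of_card_ge hP hcard.ge
      obtain ⟨a, ha, hae⟩ := exists_aut hα hr
      refine ⟨δ * a⁻¹, mul_mem hδ (inv_mem (hΔ ha)), P.subtype, subtype_mem F₀ hE, fun x => ?_⟩
      have h1 : (⟨α x, rmem hr x⟩ : P) = a x := Subtype.ext (hae x).symm
      rw [h1, h]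
      show ((δ x : P) : Ω) = ((δ (a⁻¹ (a x)) : P) : Ω)
      have h2 : a⁻¹ (a x) = x := a.symm_apply_apply x
      rw [h2]
  | @comp P Q φ ψ hφ hψ h ih1 ih2 =>
    intro α hα hr
    obtain ⟨δ, hδ, β, hβ, he⟩ := ih1 α hα hr
    have hrange : φ.range = β.range := by
      ext z
      constructor
      · rintro ⟨x, rfl⟩
        rw [he]
        exact ⟨_, rfl⟩
      · rintro ⟨y, rfl⟩
        obtain ⟨x, hx⟩ : ((δ⁻¹ y : E) : Ω) ∈ α.range := hr ▸ (δ⁻¹ y).2
        refine ⟨x, ?_⟩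
        rw [he]
        have h1 : (⟨α x, rmem hr x⟩ : E) = δ⁻¹ y := Subtype.ext hx
        rw [h1]
        have h2 : δ (δ⁻¹ y) = y := δ.apply_symm_apply y
        rw [h2]
    have hβQ : ∀ y : E, β y ∈ Q := by
      intro y
      have h1 : β y ∈ φ.range := hrange ▸ ⟨y, rfl⟩
      obtain ⟨x, hx⟩ := h1
      rw [← hx]
      exact h x
    by_cases hs : Sub F₀ E Q
    · have hQS : Q ≤ S := by
        obtain ⟨χ, hχ, -⟩ := hs
        exact hom_le hχ
      have hfQ : Finite Q := finite_of_le hQS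
      have hle : β.range ≤ Q := by
        rintro _ ⟨y, rfl⟩
        exact hβQ y
      have hcβ : Nat.card β.range = Nat.card E := (isConj_card_eq (isConj_range hβ)).symm
      have hQ : β.range = Q :=
        Subgroup.eq_of_le_of_card_ge hle (by rw [hcβ]; exact card_le_of_sub hE hs)
      obtain ⟨α', hα', hα'r, h1, h2⟩ := exists_inv hβ hQ
      obtain ⟨δ', hδ', β', hβ', he'⟩ := ih2 α' hα' hα'r
      refine ⟨δ' * δ, mul_mem hδ' hδ, β', hβ', fun x => ?_⟩
      show ψ ⟨φ x, h x⟩ = _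
      rw [he' ⟨φ x, h x⟩]
      show β' (δ' _) = β' (δ' (δ _))
      congr 2
      apply Subtype.ext
      have h3 : (⟨φ x, h x⟩ : Q) = ⟨β (δ ⟨α x, rmem hr x⟩), hβQ _⟩ := Subtype.ext (he x)
      show α' ⟨φ x, h x⟩ = _
      rw [h3]
      exact h1 _ _
    · have hψ0 := mem_of_not_sub hE hψ hs
      obtain ⟨β', hβ', he'⟩ := exists_comp hβ hψ0 hβQ
      refine ⟨δ, hδ, β', hβ', fun x => ?_⟩
      show ψ ⟨φ x, h x⟩ = _
      rw [he']
      congr 1
      exact Subtype.ext (he x)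

/-- `Aut_F(E) = Δ` in the extended system. -/
theorem ext_autGroup [Finite S] (hE : E ≤ S) (hΔ : F₀.autGroup E ≤ Δ) :
    (ext F₀ hE Δ).autGroup E = Δ := by
  have hfinE : Finite E := finite_of_le hE
  apply le_antisymm
  · intro a ha
    rw [mem_autGroup_iff _ hE] at ha
    obtain ⟨δ, hδ, β, hβ, he⟩ :=
      factor_of_iso hE hΔ ha E.subtype (subtype_mem F₀ hE) (Subgroup.range_subtype E)
    have he' : ∀ x : E, ((a x : E) : Ω) = β (δ x) := fun x => he x
    have hm : ∀ y : E, β y ∈ E := by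
      intro y
      have h1 := he' (δ⁻¹ y)
      have h2 : δ (δ⁻¹ y) = y := δ.apply_symm_apply y
      rw [h2] at h1
      rw [← h1]
      exact (a _).2
    obtain ⟨b, hb, hbe⟩ := exists_aut hβ (range_eq_of_mapsTo hβ hm)
    have h3 : a = b * δ := by
      apply MulEquiv.ext
      intro x
      apply Subtype.ext
      rw [he']
      exact (hbe (δ x)).symm
    rw [h3]
    exact mul_mem (hΔ hb) hδ
  · intro δ hδ
    rw [mem_autGroup_iff _ hE]
    exact delta_mem_ext hE hδ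

theorem ext_autGroup_of_not_sub (hE : E ≤ S) {P : Subgroup Ω} (hn : ¬ Sub F₀ E P) :
    (ext F₀ hE Δ).autGroup P = F₀.autGroup P := by
  by_cases hP : P ≤ S
  · ext a
    rw [mem_autGroup_iff _ hP, mem_autGroup_iff _ hP, ext_hom_eq hE hn]
  · have h1 : ∀ F : FusionSystem S, F.autGroup P = ⊥ := by
      intro F
      refine Subgroup.closure_eq_bot_iff.2 ?_
      intro a ha
      exact absurd (F.le_of_mem ha).1 hP
    rw [h1, h1]

theorem sub_of_iso {P : Subgroup Ω} {α : P →* Ω} (hα : α ∈ F₀.Hom P) (hr : α.range = E) : Sub F₀ E P :=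
  ⟨α, hα, fun x => rmem hr x⟩

/-- A centric subgroup conjugate into `E` is conjugate to `E`. -/
theorem iso_of_sub_centric (hmin : ∀ P : Subgroup Ω, P < E → ¬ F₀.IsCentric P) {P : Subgroup Ω}
    (hc : F₀.IsCentric P) (hs : Sub F₀ E P) : ∃ α ∈ F₀.Hom P, α.range = E := by
  obtain ⟨φ, hφ, hm⟩ := hs
  refine ⟨φ, hφ, ?_⟩
  by_contra hne
  have hle : φ.range ≤ E := by
    rintro _ ⟨x, rfl⟩
    exact hm x
  exact hmin _ (lt_of_le_of_ne hle hne) (isCentric_of_isConj hc ⟨φ, hφ, rfl⟩)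

/-- The centric subgroups of the two systems are the same. -/
theorem ext_isCentric_iff [Finite S] (hE : E ≤ S) (hΔ : F₀.autGroup E ≤ Δ) (hEc : F₀.IsCentric E)
    (hmin : ∀ P : Subgroup Ω, P < E → ¬ F₀.IsCentric P) {P : Subgroup Ω} :
    (ext F₀ hE Δ).IsCentric P ↔ F₀.IsCentric P := by
  constructor
  · rintro ⟨hP, h⟩
    refine ⟨hP, fun Q hQ => h Q ?_⟩
    obtain ⟨φ, hφ, hr⟩ := hQ
    exact ⟨φ, le_ext hE P hφ, hr⟩
  · intro hc
    refine ⟨hc.1, ?_⟩
    rintro Q ⟨ψ, hψ, rfl⟩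
    by_cases hs : Sub F₀ E P
    · obtain ⟨α, hα, hr⟩ := iso_of_sub_centric hmin hc hs
      obtain ⟨δ, hδ, β, hβ, he⟩ := factor_of_iso hE hΔ hψ α hα hr
      have h1 : ψ.range = β.range := by
        ext z
        constructor
        · rintro ⟨x, rfl⟩
          rw [he]
          exact ⟨_, rfl⟩
        · rintro ⟨y, rfl⟩
          obtain ⟨x, hx⟩ : ((δ⁻¹ y : E) : Ω) ∈ α.range := hr ▸ (δ⁻¹ y).2
          refine ⟨x, ?_⟩
          rw [he]
          have h1 : (⟨α x, rmem hr x⟩ : E) = δ⁻¹ y := Subtype.ext hx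
          rw [h1]
          have h2 : δ (δ⁻¹ y) = y := δ.apply_symm_apply y
          rw [h2]
      rw [h1]
      exact hEc.2 _ ⟨β, hβ, rfl⟩
    · exact hc.2 _ ⟨ψ, mem_of_not_sub hE hψ hs, rfl⟩

end Cfsg.Agent.H775.Ext
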