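import Cfsg.Agent.H275.Heis

set_option autoImplicit false
set_option linter.unusedSectionVars false

/-!
# The automorphism group of the extraspecial group of order `p ^ 3` and exponent `p`

The kernel of `HData.rep` is the group of inner automorphisms, and `HData.rep` is surjective; any two groups with
`HData` are isomorphic, compatibly with the chosen pairs.
-/

namespace Cfsg.Agent.H775.HeisRep

open Matrix Cfsg.Agent.H275.Heis

variable {p : ℕ} [hp : Fact p.Prime] {P : Type*} [Group P] {P' : Type*} [Group P']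

/-- Normal form. -/
noncomputable def nf (D : HData p P) (v : Fin 2 → ZMod p) (k : ZMod p) : P :=
  pw D.x0 (v 0) * pw D.y0 (v 1) * pw D.z k

theorem pi_nf (D : HData p P) (v : Fin 2 → ZMod p) (k : ZMod p) : D.pi (nf D v k) = v := by
  unfold nf
  rw [D.pi_mul, D.pi_lift, D.pi_pw, D.pi_eq_zero_iff.2 D.z_mem, smul_zero, add_zero]

theorem exists_nf (D : HData p P) (w : P) : ∃ k : ZMod p, w = nf D (D.pi w) k := D.exists_decomp w

theorem nf_inj (D : HData p P) {v v' : Fin 2 → ZMod p} {k k' : ZMod p} (h : nf D v k = nf D v' k') :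
    v = v' ∧ k = k' := by
  have h1 : v = v' := by rw [← pi_nf D v k, h, pi_nf]
  refine ⟨h1, ?_⟩
  subst h1
  unfold nf at h
  exact (pw_inj (D.pow_p _) D.z_ne).1 (mul_left_cancel h)

/-- The coordinate of the centre. -/
noncomputable def ct (D : HData p P) (w : P) : ZMod p := Classical.choose (exists_nf D w)

theorem nf_ct (D : HData p P) (w : P) : nf D (D.pi w) (ct D w) = w := (Classical.choose_spec (exists_nf D w)).symm

theorem ct_nf (D : HData p P) (v : Fin 2 → ZMod p) (k : ZMod p) : ct D (nf D v k) = k := by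
  have h := nf_ct D (nf D v k)
  exact (nf_inj D h).2

/-- The multiplication in normal form. -/
theorem nf_mul (D : HData p P) (v v' : Fin 2 → ZMod p) (k k' : ZMod p) :
    nf D v k * nf D v' k' = nf D (v + v') (k + k' - v 1 * v' 0) := by
  have hx := D.pow_p D.x0
  have hy := D.pow_p D.y0
  have hz := D.pow_p D.z
  have hcz : ∀ (a : ZMod p) (w : P), pw D.z a * w = w * pw D.z a := fun a w => by
    have := pw_commute (D.commute_z w) a 1
    rw [pw_one] at this
    exact this.eq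
  have h1 : pw D.y0 (v 1) * pw D.x0 (v' 0) = pw D.z (-(v 1 * v' 0)) * (pw D.x0 (v' 0) * pw D.y0 (v 1)) := by
    have h2 := D.c_spec (pw D.y0 (v 1)) (pw D.x0 (v' 0))
    rw [D.c_pw_left, D.c_pw_right, D.c_swap D.x0 D.y0, D.c_x0_y0] at h2
    have h3 : v 1 * (v' 0 * -1) = -(v 1 * v' 0) := by ring
    rw [h3] at h2
    rw [← h2]
    group
  unfold nf
  calc pw D.x0 (v 0) * pw D.y0 (v 1) * pw D.z k * (pw D.x0 (v' 0) * pw D.y0 (v' 1) * pw D.z k')
      = pw D.x0 (v 0) * pw D.y0 (v 1) * (pw D.z k * (pw D.x0 (v' 0) * pw D.y0 (v' 1))) * pw D.z k' := by group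
    _ = pw D.x0 (v 0) * (pw D.y0 (v 1) * pw D.x0 (v' 0)) * pw D.y0 (v' 1) * (pw D.z k * pw D.z k') := by
        rw [hcz k]; group
    _ = pw D.x0 (v 0) * (pw D.z (-(v 1 * v' 0)) * (pw D.x0 (v' 0) * pw D.y0 (v 1))) * pw D.y0 (v' 1) *
          (pw D.z k * pw D.z k') := by rw [h1]
    _ = pw D.x0 (v 0) * (pw D.x0 (v' 0) * pw D.y0 (v 1)) * pw D.y0 (v' 1) *
          (pw D.z k * pw D.z k' * pw D.z (-(v 1 * v' 0))) := by
        rw [hcz (-(v 1 * v' 0)) (pw D.x0 (v' 0) * pw D.y0 (v 1))]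
        have h4 : pw D.z (-(v 1 * v' 0)) * pw D.y0 (v' 1) = pw D.y0 (v' 1) * pw D.z (-(v 1 * v' 0)) := hcz _ _
        calc _ = pw D.x0 (v 0) * (pw D.x0 (v' 0) * pw D.y0 (v 1)) *
              (pw D.z (-(v 1 * v' 0)) * pw D.y0 (v' 1)) * (pw D.z k * pw D.z k') := by group
          _ = _ := by rw [h4, ← hcz (-(v 1 * v' 0)) (pw D.z k * pw D.z k')]; group
    _ = pw D.x0 ((v + v') 0) * pw D.y0 ((v + v') 1) * pw D.z (k + k' - v 1 * v' 0) := by
        rw [Pi.add_apply, Pi.add_apply, pw_add hx, pw_add hy, sub_eq_add_neg, pw_add hz, pw_add hz]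
        group

/-- Two groups with Heisenberg data are isomorphic. -/
theorem exists_iso (D : HData p P) (D' : HData p P') :
    ∃ φ : P ≃* P', φ D.x0 = D'.x0 ∧ φ D.y0 = D'.y0 ∧ ∀ w : P, D'.pi (φ w) = D.pi w := by
  let f : P → P' := fun w => nf D' (D.pi w) (ct D w)
  let g : P' → P := fun w => nf D (D'.pi w) (ct D' w)
  have hfg : ∀ w, f (g w) = w := by
    intro w
    change nf D' (D.pi (nf D _ _)) (ct D (nf D _ _)) = w
    rw [pi_nf, ct_nf, nf_ct]
  have hgf : ∀ w, g (f w) = w := by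
    intro w
    change nf D (D'.pi (nf D' _ _)) (ct D' (nf D' _ _)) = w
    rw [pi_nf, ct_nf, nf_ct]
  have hct : ∀ u w : P, ct D (u * w) = ct D u + ct D w - D.pi u 1 * D.pi w 0 := by
    intro u w
    conv_lhs => rw [← nf_ct D u, ← nf_ct D w, nf_mul, ct_nf]
  let φ : P ≃* P' :=
    { toFun := f
      invFun := g
      left_inv := hgf
      right_inv := hfg
      map_mul' := by
        intro u w
        change nf D' (D.pi (u * w)) (ct D (u * w)) = nf D' (D.pi u) (ct D u) * nf D' (D.pi w) (ct D w)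
        rw [nf_mul, D.pi_mul, hct] }
  have hpi : ∀ w : P, D'.pi (φ w) = D.pi w := fun w => pi_nf D' _ _
  refine ⟨φ, ?_, ?_, hpi⟩
  · have h1 : D.x0 = nf D ![1, 0] 0 := by
      unfold nf
      simp [pw_one, pw_zero]
    change nf D' (D.pi D.x0) (ct D D.x0) = D'.x0
    rw [D.pi_x0]
    conv_lhs => rw [h1, ct_nf]
    unfold nf
    simp [pw_one, pw_zero]
  · have h1 : D.y0 = nf D ![0, 1] 0 := by
      unfold nf
      simp [pw_one, pw_zero]
    change nf D' (D.pi D.y0) (ct D D.y0) = D'.y0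
    rw [D.pi_y0]
    conv_lhs => rw [h1, ct_nf]
    unfold nf
    simp [pw_one, pw_zero]

/-- Heisenberg data with a given noncommuting pair. -/
def ofPair (D : HData p P) (x y : P) (h : x * y * x⁻¹ * y⁻¹ ≠ 1) (hp' : Fact p.Prime := hp) : HData p P where
  x0 := x
  y0 := y
  z := x * y * x⁻¹ * y⁻¹
  hz := rfl
  pow_p := D.pow_p
  z_ne := h
  center_eq := by
    have := hp'
    have hfin : Finite P := Nat.finite_of_card_ne_zero (by rw [D.card_eq]; exact (pow_pos hp'.out.pos 3).ne')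
    symm
    apply Subgroup.eq_of_le_of_card_ge
    · rw [Subgroup.zpowers_le]; exact D.comm_mem x y
    · rw [D.center_eq, Nat.card_zpowers, Nat.card_zpowers, orderOf_eq_prime (D.pow_p _) D.z_ne,
        orderOf_eq_prime (D.pow_p _) h]
  comm_mem := D.comm_mem
  card_eq := D.card_eq

/-- An automorphism trivial modulo the centre is inner. -/
theorem rep_eq_one_iff (D : HData p P) (φ : MulAut P) : D.rep φ = 1 ↔ ∃ u : P, φ = MulAut.conj u := by
  constructor
  · intro h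
    have hpi : ∀ w, D.pi (φ w) = D.pi w := by
      intro w
      rw [← D.rep_mulVec, h, Units.val_one, Matrix.one_mulVec]
    have hz : ∀ w, ∃ k : ZMod p, φ w = pw D.z k * w := by
      intro w
      have h1 : D.pi (φ w * w⁻¹) = 0 := by
        have h2 : D.pi (φ w * w⁻¹ * w) = D.pi (φ w * w⁻¹) + D.pi w := D.pi_mul _ _
        rw [inv_mul_cancel_right, hpi] at h2
        exact right_eq_add.1 h2
      rw [D.pi_eq_zero_iff, D.center_eq] at h1
      obtain ⟨k, hk⟩ := exists_pw_of_mem_zpowers (D.pow_p _) h1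
      exact ⟨k, by rw [← hk, inv_mul_cancel_right]⟩
    obtain ⟨a, ha⟩ := hz D.x0
    obtain ⟨b, hb⟩ := hz D.y0
    have hu := D.pi_lift ![b, -a]
    set u : P := pw D.x0 ((![b, -a] : Fin 2 → ZMod p) 0) * pw D.y0 ((![b, -a] : Fin 2 → ZMod p) 1) with hu'
    refine ⟨u, ?_⟩
    have e1 : φ D.x0 = MulAut.conj u D.x0 := by
      rw [ha, MulAut.conj_apply, D.conj_eq, D.c_eq_det, hu, D.pi_x0]
      congr 2
      simp
    have e2 : φ D.y0 = MulAut.conj u D.y0 := by
      rw [hb, MulAut.conj_apply, D.conj_eq, D.c_eq_det, hu, D.pi_y0]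
      congr 2
      simp
    have e3 : φ D.z = MulAut.conj u D.z := by
      rw [← D.hz]
      simp only [map_mul, map_inv, e1, e2]
    ext w
    obtain ⟨k, hk⟩ := D.exists_decomp w
    rw [hk]
    have h1 : ∀ (ψ : MulAut P) (x : P) (a : ZMod p), ψ (pw x a) = pw (ψ x) a := fun ψ x a => map_pw ψ.toMonoidHom x a
    rw [map_mul, map_mul, map_mul, map_mul, h1 φ, h1 φ, h1 φ, h1 (MulAut.conj u), h1 (MulAut.conj u),
      h1 (MulAut.conj u), e1, e2, e3]
  · rintro ⟨u, rfl⟩
    exact D.rep_conj u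

theorem ker_rep (D : HData p P) : D.rep.ker = (MulAut.conj : P →* MulAut P).range := by
  ext φ
  rw [MonoidHom.mem_ker, rep_eq_one_iff, MonoidHom.mem_range]
  constructor
  · rintro ⟨u, rfl⟩; exact ⟨u, rfl⟩
  · rintro ⟨u, rfl⟩; exact ⟨u, rfl⟩

/-- Two automorphisms with the same matrix differ by an inner automorphism. -/
theorem rep_eq_iff (D : HData p P) (φ ψ : MulAut P) : D.rep φ = D.rep ψ ↔ ∃ u : P, φ = MulAut.conj u * ψ := by
  rw [← mul_inv_eq_one, ← map_inv, ← map_mul, rep_eq_one_iff]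
  constructor
  · rintro ⟨u, hu⟩
    exact ⟨u, by rw [← hu, inv_mul_cancel_right]⟩
  · rintro ⟨u, rfl⟩
    exact ⟨u, by rw [mul_inv_cancel_right]⟩

/-- Every matrix comes from an automorphism. -/
theorem rep_surjective (D : HData p P) : Function.Surjective D.rep := by
  intro g
  set M : Matrix (Fin 2) (Fin 2) (ZMod p) := (g : Matrix (Fin 2) (Fin 2) (ZMod p)) with hM
  have hdet : M.det ≠ 0 := by
    intro h
    have h3 : IsUnit M.det := by
      rw [← Matrix.isUnit_iff_isUnit_det]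
      exact ⟨g, rfl⟩
    rw [h] at h3
    exact not_isUnit_zero h3
  have hx := D.pi_lift (M *ᵥ ![1, 0])
  have hy := D.pi_lift (M *ᵥ ![0, 1])
  set x : P := pw D.x0 ((M *ᵥ ![1, 0]) 0) * pw D.y0 ((M *ᵥ ![1, 0]) 1) with hx'
  set y : P := pw D.x0 ((M *ᵥ ![0, 1]) 0) * pw D.y0 ((M *ᵥ ![0, 1]) 1) with hy'
  have hM00 : (M *ᵥ ![1, 0]) 0 = M 0 0 := by simp [Matrix.mulVec, dotProduct, Fin.sum_univ_two]
  have hM10 : (M *ᵥ ![1, 0]) 1 = M 1 0 := by simp [Matrix.mulVec, dotProduct, Fin.sum_univ_two]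
  have hM01 : (M *ᵥ ![0, 1]) 0 = M 0 1 := by simp [Matrix.mulVec, dotProduct, Fin.sum_univ_two]
  have hM11 : (M *ᵥ ![0, 1]) 1 = M 1 1 := by simp [Matrix.mulVec, dotProduct, Fin.sum_univ_two]
  have hc : D.c x y = M.det := by
    rw [D.c_eq_det, hx, hy, hM00, hM10, hM01, hM11, Matrix.det_fin_two]
    ring
  have hne : x * y * x⁻¹ * y⁻¹ ≠ 1 := by
    intro h
    apply hdet
    rw [← hc, D.c_eq_iff, h, pw_zero]
  obtain ⟨φ, h1, h2, -⟩ := exists_iso D (ofPair D x y hne hp)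
  change φ D.x0 = x at h1
  change φ D.y0 = y at h2
  refine ⟨φ, ?_⟩
  apply Units.ext
  apply D.mulVec_ext
  intro w
  have hlin : ∀ v : Fin 2 → ZMod p, v = v 0 • ![1, 0] + v 1 • ![0, 1] := by
    intro v
    ext i
    fin_cases i <;> simp
  have f1 : (D.rep φ : Matrix (Fin 2) (Fin 2) (ZMod p)) *ᵥ ![1, 0] = M *ᵥ ![1, 0] := by
    rw [← D.pi_x0, D.rep_mulVec, h1, hx, D.pi_x0]
  have f2 : (D.rep φ : Matrix (Fin 2) (Fin 2) (ZMod p)) *ᵥ ![0, 1] = M *ᵥ ![0, 1] := by
    rw [← D.pi_y0, D.rep_mulVec, h2, hy, D.pi_y0]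
  rw [hlin (D.pi w), Matrix.mulVec_add, Matrix.mulVec_smul, Matrix.mulVec_smul, f1, f2, Matrix.mulVec_add,
    Matrix.mulVec_smul, Matrix.mulVec_smul, ← hM]

end Cfsg.Agent.H775.HeisRep
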